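/-
Four-transitive groups in which the stabiliser of four points has odd order: basic facts about involutions.
-/
import Cfsg.Agent.PermGroups.LW.Basic
import Mathlib.Algebra.BigOperators.Group.Finset.Basic
import Mathlib.Data.ZMod.Basic
import Mathlib.GroupTheory.Perm.Basic

set_option autoImplicit false
set_option maxHeartbeats 1000000

namespace Cfsg.Agent.PermGroups.HallFour

open MulAction

section Group

variable {G : Type*} [Group G]

/-- Two involutions whose product has odd order are conjugate under a power of the product. -/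
theorem conj_odd {a a' : G} (ha : a * a = 1) (ha' : a' * a' = 1) (h : Odd (orderOf (a * a'))) :
    ∃ w ∈ Subgroup.zpowers (a * a'), w⁻¹ * a * w = a' := by
  obtain ⟨j, hj⟩ := h
  refine ⟨(a * a') ^ (j + 1), Subgroup.npow_mem_zpowers _ _, ?_⟩
  have hai : a⁻¹ = a := inv_eq_of_mul_eq_one_right ha
  have hai' : a'⁻¹ = a' := inv_eq_of_mul_eq_one_right ha'
  have hu : a * (a * a') * a⁻¹ = (a * a')⁻¹ := by
    rw [mul_inv_rev, hai, hai', show a * (a * a') * a = (a * a) * a' * a by group, ha, one_mul]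
  have hk : a * (a * a') ^ (j + 1) * a⁻¹ = ((a * a') ^ (j + 1))⁻¹ := by
    rw [← conj_pow, hu, inv_pow]
  have hpow : (a * a') ^ (j + 1) * (a * a') ^ (j + 1) = a * a' := by
    rw [← pow_add, show j + 1 + (j + 1) = (2 * j + 1) + 1 by ring, pow_succ, ← hj, pow_orderOf_eq_one,
      one_mul]
  calc ((a * a') ^ (j + 1))⁻¹ * a * (a * a') ^ (j + 1)
      = ((a * a') ^ (j + 1))⁻¹ * (a * (a * a') ^ (j + 1) * a⁻¹) * a := by group
    _ = ((a * a') ^ (j + 1) * (a * a') ^ (j + 1))⁻¹ * a := by rw [hk, mul_inv_rev]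
    _ = a' := by rw [hpow, mul_inv_rev, hai, hai', mul_assoc, ha, mul_one]

/-- An odd power of the product of two involutions commutes with both if it is an involution. -/
theorem commute_pow {t t' : G} (ht : t * t = 1) (ht' : t' * t' = 1) {n : ℕ}
    (h : (t' * t) ^ n * (t' * t) ^ n = 1) : Commute t ((t' * t) ^ n) := by
  have hti : t⁻¹ = t := inv_eq_of_mul_eq_one_right ht
  have hti' : t'⁻¹ = t' := inv_eq_of_mul_eq_one_right ht'
  have hu : t * (t' * t) * t⁻¹ = (t' * t)⁻¹ := by
    rw [mul_inv_rev, hti', mul_assoc, mul_assoc, mul_inv_cancel, mul_one, hti]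
  have : t * (t' * t) ^ n * t⁻¹ = (t' * t) ^ n := by
    rw [← conj_pow, hu, inv_pow]
    exact inv_eq_of_mul_eq_one_right h
  exact mul_inv_eq_iff_eq_mul.mp this

end Group

variable {G : Type*} [Group G] {α : Type*} [MulAction G α]

/-- A point is one of four. -/
abbrev OfFour (a b c d x : α) : Prop := x = a ∨ x = b ∨ x = c ∨ x = d

variable (G) in
/-- The stabiliser of four points. -/
def fix4 (a b c d : α) : Subgroup G :=
  stabilizer G a ⊓ stabilizer G b ⊓ stabilizer G c ⊓ stabilizer G d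

theorem mem_fix4 {a b c d : α} {g : G} :
    g ∈ fix4 G a b c d ↔ g • a = a ∧ g • b = b ∧ g • c = c ∧ g • d = d := by
  simp [fix4, and_assoc]

theorem fix4_smul {a b c d x : α} {g : G} (hg : g ∈ fix4 G a b c d) (hx : OfFour a b c d x) :
    g • x = x := by
  obtain ⟨h1, h2, h3, h4⟩ := mem_fix4.mp hg
  rcases hx with rfl | rfl | rfl | rfl <;> assumption

theorem fix4_eq_stabilizer {a b c d : α} (h : [a, b, c, d].Nodup) :
    fix4 G a b c d = stabilizer G (SharplyTransitive.q4 a b c d h) := by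
  ext g
  rw [mem_fix4, mem_stabilizer_iff]
  constructor
  · rintro ⟨h1, h2, h3, h4⟩
    ext i
    fin_cases i <;> assumption
  · intro e
    exact ⟨DFunLike.congr_fun e 0, DFunLike.congr_fun e 1, DFunLike.congr_fun e 2, DFunLike.congr_fun e 3⟩

theorem conj_mem_fix4 {a b c d : α} {u : G} (hu : u ∈ fix4 G a b c d) (g : G) :
    g * u * g⁻¹ ∈ fix4 G (g • a) (g • b) (g • c) (g • d) := by
  obtain ⟨h1, h2, h3, h4⟩ := mem_fix4.mp hu
  refine mem_fix4.mpr ⟨?_, ?_, ?_, ?_⟩ <;> simp [mul_smul, h1, h2, h3, h4]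

theorem perm_mem_fix4 {a b c d a' b' c' d' : α} {u : G} (hu : u ∈ fix4 G a b c d)
    (ha : OfFour a b c d a') (hb : OfFour a b c d b') (hc : OfFour a b c d c')
    (hd : OfFour a b c d d') : u ∈ fix4 G a' b' c' d' :=
  mem_fix4.mpr ⟨fix4_smul hu ha, fix4_smul hu hb, fix4_smul hu hc, fix4_smul hu hd⟩

/-- An element of odd exponent cannot exchange two points. -/
theorem fix_of_pair {u : G} {m : ℕ} (hm : Odd m) (hu : u ^ m = 1) {x y : α}
    (hx : u • x = x ∨ u • x = y) (hy : u • y = x ∨ u • y = y) : u • x = x := by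
  by_contra hne
  have hxy : u • x = y := hx.resolve_left hne
  have hyx : u • y = x := hy.resolve_right fun e =>
    hne (by have := MulAction.injective u (hxy.trans e.symm); rw [← this] at hxy; exact hxy)
  have hk : ∀ k : ℕ, (u ^ (2 * k)) • x = x := fun k => by
    induction k with
    | zero => simp
    | succ k ih => rw [mul_add_one, pow_succ, pow_succ, mul_smul, mul_smul, hxy, hyx, ih]
  obtain ⟨j, rfl⟩ := hm
  have h1 : (u ^ (2 * j + 1)) • x = u • x := by rw [pow_succ', mul_smul, hk]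
  rw [hu, one_smul] at h1
  exact hne h1.symm

/-- The hypotheses: four-transitivity, and every stabiliser of four points is odd. -/
structure OddFour (G : Type*) [Group G] (α : Type*) [MulAction G α] : Prop where
  trans : IsMultiplyPretransitive G α 4
  odd : ∀ a b c d : α, [a, b, c, d].Nodup → Odd (Nat.card (fix4 G a b c d))

namespace OddFour

variable (h : OddFour G α)
include h

theorem orderOf_odd {a b c d : α} (hn : [a, b, c, d].Nodup) {u : G} (hu : u ∈ fix4 G a b c d) :
    Odd (orderOf u) := by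
  refine (h.odd a b c d hn).of_dvd_nat ?_
  rw [show u = ((⟨u, hu⟩ : fix4 G a b c d) : G) from rfl, Subgroup.orderOf_coe]
  exact orderOf_dvd_natCard _

theorem eq_one_of_sq {a b c d : α} (hn : [a, b, c, d].Nodup) {u : G} (hu : u ∈ fix4 G a b c d)
    (hu2 : u * u = 1) : u = 1 := by
  obtain ⟨j, hj⟩ := h.orderOf_odd hn hu
  have := pow_orderOf_eq_one u
  rwa [hj, pow_succ, pow_mul, pow_two, hu2, one_pow, one_mul] at this

theorem pow_card_eq {a b c d : α} {u : G} (hu : u ∈ fix4 G a b c d) :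
    u ^ Nat.card (fix4 G a b c d) = 1 :=
  congrArg Subtype.val (pow_card_eq_one' (G := fix4 G a b c d) (x := ⟨u, hu⟩))

/-- An involution inducing a transposition on four points. -/
theorem exists_lift {a b c d : α} (hn : [a, b, c, d].Nodup) :
    ∃ t : G, t * t = 1 ∧ t • a = b ∧ t • b = a ∧ t • c = c ∧ t • d = d := by
  obtain ⟨g, ga, gb, gc, gd⟩ := LW.exists_map_four h.trans hn (show [b, a, c, d].Nodup by
    simp only [List.nodup_cons, List.mem_cons, List.not_mem_nil, or_false, not_or] at hn ⊢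
    tauto)
  have hg : g * g ∈ fix4 G a b c d := mem_fix4.mpr
    ⟨by rw [mul_smul, ga, gb], by rw [mul_smul, gb, ga], by rw [mul_smul, gc, gc], by rw [mul_smul, gd, gd]⟩
  obtain ⟨j, hj⟩ := h.odd a b c d hn
  refine ⟨g ^ Nat.card (fix4 G a b c d), ?_, ?_⟩
  · rw [← (Commute.refl g).mul_pow]
    exact h.pow_card_eq hg
  · have hk : ∀ x, OfFour a b c d x → ∀ k : ℕ, ((g * g) ^ k) • x = x := fun x hx k =>
      fix4_smul (Subgroup.pow_mem _ hg k) hx
    rw [hj, pow_succ, pow_mul, pow_two]
    refine ⟨?_, ?_, ?_, ?_⟩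
    · rw [mul_smul, ga, hk b (by simp [OfFour])]
    · rw [mul_smul, gb, hk a (by simp [OfFour])]
    · rw [mul_smul, gc, hk c (by simp [OfFour])]
    · rw [mul_smul, gd, hk d (by simp [OfFour])]

/-- An involution commuting with a given one, inducing its product with a further transposition. -/
theorem exists_comm {a b c d : α} (hn : [a, b, c, d].Nodup) {t : G} (htt : t * t = 1)
    (hta : t • a = b) (htb : t • b = a) (ht' : t • c = c ∧ t • d = d ∨ t • c = d ∧ t • d = c) :
    ∃ v : G, v * v = 1 ∧ Commute t v ∧ v • a = b ∧ v • b = a ∧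
      (t • c = c → v • c = d ∧ v • d = c) ∧ (t • c = d → v • c = c ∧ v • d = d) := by
  have hne : c ≠ d := by simp [List.nodup_cons] at hn; tauto
  obtain ⟨t', ht't', t'c, t'd, t'a, t'b⟩ := h.exists_lift (show [c, d, a, b].Nodup by
    simp only [List.nodup_cons, List.mem_cons, List.not_mem_nil, or_false, not_or] at hn ⊢
    tauto)
  obtain ⟨w, hw⟩ : ∃ w, w = t' * t := ⟨_, rfl⟩
  have wa : w • a = b := by rw [hw, mul_smul, hta, t'b]
  have wb : w • b = a := by rw [hw, mul_smul, htb, t'a]
  have wc : (t • c = c → w • c = d ∧ w • d = c) ∧ (t • c = d → w • c = c ∧ w • d = d) := by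
    rcases ht' with ⟨e1, e2⟩ | ⟨e1, e2⟩
    · exact ⟨fun _ => ⟨by rw [hw, mul_smul, e1, t'c], by rw [hw, mul_smul, e2, t'd]⟩,
        fun e => absurd (e1.symm.trans e) hne⟩
    · exact ⟨fun e => absurd (e.symm.trans e1) hne,
        fun _ => ⟨by rw [hw, mul_smul, e1, t'd], by rw [hw, mul_smul, e2, t'c]⟩⟩
  have hw2 : w * w ∈ fix4 G a b c d := by
    refine mem_fix4.mpr ⟨by rw [mul_smul, wa, wb], by rw [mul_smul, wb, wa], ?_⟩
    rcases ht' with ⟨e1, -⟩ | ⟨e1, -⟩
    · simp [mul_smul, wc.1 e1]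
    · simp [mul_smul, wc.2 e1]
  obtain ⟨j, hj⟩ := h.odd a b c d hn
  have hv2 : w ^ Nat.card (fix4 G a b c d) * w ^ Nat.card (fix4 G a b c d) = 1 := by
    rw [← (Commute.refl w).mul_pow]
    exact h.pow_card_eq hw2
  have hval : ∀ x y, OfFour a b c d y → w • x = y → (w ^ Nat.card (fix4 G a b c d)) • x = y :=
    fun x y hy e => by
      rw [hj, pow_succ, pow_mul, pow_two, mul_smul, e, fix4_smul (Subgroup.pow_mem _ hw2 j) hy]
  refine ⟨w ^ Nat.card (fix4 G a b c d), hv2, ?_, hval a b (by simp [OfFour]) wa,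
    hval b a (by simp [OfFour]) wb, fun e => ?_, fun e => ?_⟩
  · rw [hw] at hv2 ⊢
    exact commute_pow htt ht't' hv2
  · exact ⟨hval c d (by simp [OfFour]) (wc.1 e).1, hval d c (by simp [OfFour]) (wc.1 e).2⟩
  · exact ⟨hval c c (by simp [OfFour]) (wc.2 e).1, hval d d (by simp [OfFour]) (wc.2 e).2⟩

/-- A non-trivial involution does not fix four points. -/
theorem not_four_fixed {t : G} (htt : t * t = 1) (ht1 : t ≠ 1) {x y z w : α}
    (hn : [x, y, z, w].Nodup) (hx : t • x = x) (hy : t • y = y) (hz : t • z = z) :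
    t • w ≠ w :=
  fun hw => ht1 (h.eq_one_of_sq hn (mem_fix4.mpr ⟨hx, hy, hz, hw⟩) htt)

end OddFour

section Parity

variable [DecidableEq α]

/-- An involution moves an even number of the points of an invariant set. -/
theorem even_moved {t : G} (htt : t * t = 1) (s : Finset α) (hs : ∀ x ∈ s, t • x ∈ s) :
    Even (s.filter fun x => t • x ≠ x).card := by
  rw [← ZMod.natCast_eq_zero_iff_even, Finset.card_eq_sum_ones, Nat.cast_sum]
  refine Finset.sum_involution (fun x _ => t • x) (fun x _ => ?_) (fun x hx _ => ?_) (fun x hx => ?_)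
    fun x _ => ?_
  · simpa using show (1 + 1 : ZMod 2) = 0 by decide
  · exact (Finset.mem_filter.mp hx).2
  · obtain ⟨h1, h2⟩ := Finset.mem_filter.mp hx
    exact Finset.mem_filter.mpr ⟨hs x h1, fun e => h2 (MulAction.injective t e)⟩
  · show t • t • x = x
    rw [← mul_smul, htt, one_smul]

theorem odd_fixed_iff {t : G} (htt : t * t = 1) (s : Finset α) (hs : ∀ x ∈ s, t • x ∈ s) :
    Odd (s.filter fun x => t • x = x).card ↔ Odd s.card := by
  have h1 := Finset.card_filter_add_card_filter_not (s := s) (fun x => t • x = x)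
  have h2 := even_moved htt s hs
  simp only [ne_eq] at h2
  rw [← h1, Nat.odd_add]
  exact ⟨fun h => iff_of_true h h2, fun h => h.mpr h2⟩

variable [Fintype α]

theorem OddFour.fixed_two (h : OddFour G α) (he : Even (Fintype.card α)) {t : G} (htt : t * t = 1)
    (ht1 : t ≠ 1) {c d : α} (hcd : c ≠ d) (hc : t • c = c) (hd : t • d = d) (z : α) (hz : t • z = z) :
    z = c ∨ z = d := by
  by_contra hne
  rw [not_or] at hne
  have hsub : ({c, d, z} : Finset α) ⊆ Finset.univ.filter fun x => t • x = x := by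
    intro x hx
    simp only [Finset.mem_insert, Finset.mem_singleton] at hx
    rcases hx with rfl | rfl | rfl <;> simp [*]
  have h3 : ({c, d, z} : Finset α).card = 3 :=
    Finset.card_eq_three.mpr ⟨c, d, z, hcd, Ne.symm hne.1, Ne.symm hne.2, rfl⟩
  have hne2 : (Finset.univ.filter fun x => t • x = x) ≠ {c, d, z} := fun e => by
    have := (odd_fixed_iff htt Finset.univ (fun x _ => Finset.mem_univ _)).mp (by rw [e, h3]; decide)
    rw [Finset.card_univ] at this
    exact Nat.not_odd_iff_even.mpr he this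
  obtain ⟨w, hw, hw'⟩ := Finset.exists_of_ssubset (hsub.ssubset_of_ne hne2.symm)
  simp only [Finset.mem_insert, Finset.mem_singleton, not_or] at hw'
  refine h.not_four_fixed htt ht1 (x := c) (y := d) (z := z) (w := w) ?_ hc hd hz
    (Finset.mem_filter.mp hw).2
  simp [List.nodup_cons, hcd, Ne.symm hne.1, Ne.symm hne.2, Ne.symm hw'.1, Ne.symm hw'.2.1,
    Ne.symm hw'.2.2]

theorem OddFour.exists_third (h : OddFour G α) (ho : Odd (Fintype.card α)) {t : G} (htt : t * t = 1)
    (ht1 : t ≠ 1) {c d : α} (hcd : c ≠ d) (hc : t • c = c) (hd : t • d = d) :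
    ∃ p, p ≠ c ∧ p ≠ d ∧ t • p = p ∧ ∀ z, t • z = z → z = c ∨ z = d ∨ z = p := by
  have hsub : ({c, d} : Finset α) ⊆ Finset.univ.filter fun x => t • x = x := by
    intro x hx
    simp only [Finset.mem_insert, Finset.mem_singleton] at hx
    rcases hx with rfl | rfl <;> simp [*]
  have hne2 : (Finset.univ.filter fun x => t • x = x) ≠ {c, d} := fun e => by
    have := (odd_fixed_iff htt (Finset.univ : Finset α) (fun x _ => Finset.mem_univ _)).mpr
      (by rwa [Finset.card_univ])
    rw [e, Finset.card_pair hcd] at this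
    exact absurd this (by decide)
  obtain ⟨p, hp, hp'⟩ := Finset.exists_of_ssubset (hsub.ssubset_of_ne hne2.symm)
  simp only [Finset.mem_insert, Finset.mem_singleton, not_or] at hp'
  refine ⟨p, hp'.1, hp'.2, (Finset.mem_filter.mp hp).2, fun z hz => ?_⟩
  by_contra hne
  simp only [not_or] at hne
  refine h.not_four_fixed htt ht1 (x := c) (y := d) (z := p) (w := z) ?_ hc hd
    (Finset.mem_filter.mp hp).2 hz
  simp [List.nodup_cons, hcd, Ne.symm hp'.1, Ne.symm hp'.2, Ne.symm hne.1, Ne.symm hne.2.1,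
    Ne.symm hne.2.2]

/-- The orbit of a point as a finset. -/
noncomputable def orb (H : Subgroup G) (x : α) : Finset α :=
  haveI := Classical.decPred fun y => ∃ u ∈ H, u • x = y
  Finset.univ.filter fun y => ∃ u ∈ H, u • x = y

theorem mem_orb {H : Subgroup G} {x y : α} : y ∈ orb H x ↔ ∃ u ∈ H, u • x = y := by
  simp [orb]

theorem mem_orb_self {H : Subgroup G} (x : α) : x ∈ orb H x := mem_orb.mpr ⟨1, H.one_mem, one_smul _ _⟩

theorem orb_eq {H : Subgroup G} {x y : α} (h : y ∈ orb H x) : orb H y = orb H x := by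
  obtain ⟨u, hu, rfl⟩ := mem_orb.mp h
  ext z
  simp only [mem_orb]
  constructor
  · rintro ⟨v, hv, rfl⟩
    exact ⟨v * u, H.mul_mem hv hu, mul_smul _ _ _⟩
  · rintro ⟨v, hv, rfl⟩
    exact ⟨v * u⁻¹, H.mul_mem hv (H.inv_mem hu), by rw [mul_smul, inv_smul_smul]⟩

theorem odd_card_orb [Finite G] {H : Subgroup G} (hH : Odd (Nat.card H)) (x : α) :
    Odd (orb H x).card := by
  have e : (orb H x).card = Nat.card (orbit H x) := by
    rw [← Nat.card_eq_finsetCard]
    refine Nat.card_congr (Equiv.subtypeEquivRight fun y => ?_)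
    rw [mem_orb]
    exact ⟨fun ⟨u, hu, e⟩ => ⟨⟨u, hu⟩, e⟩, fun ⟨u, e⟩ => ⟨u, u.2, e⟩⟩
  refine hH.of_dvd_nat ?_
  rw [e, Nat.card_congr (orbitEquivQuotientStabilizer H x)]
  exact Subgroup.card_quotient_dvd_card _

/-- An element normalising the subgroup permutes its orbits. -/
theorem orb_smul {H : Subgroup G} {g : G} (hg : ∀ u ∈ H, g * u * g⁻¹ ∈ H ∧ g⁻¹ * u * g ∈ H) (x : α) :
    orb H (g • x) = (orb H x).image (g • ·) := by
  ext z
  simp only [mem_orb, Finset.mem_image]
  constructor
  · rintro ⟨u, hu, rfl⟩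
    exact ⟨(g⁻¹ * u * g) • x, ⟨_, (hg u hu).2, rfl⟩, by simp [mul_smul]⟩
  · rintro ⟨y, ⟨u, hu, rfl⟩, rfl⟩
    exact ⟨_, (hg u hu).1, by simp [mul_smul]⟩

end Parity

/-- An element preserving four points as a set. -/
abbrev Preserves (a b c d : α) (g : G) : Prop := ∀ x, OfFour a b c d x → OfFour a b c d (g • x)

theorem preserves_of {a b c d : α} {g : G} (ha : OfFour a b c d (g • a)) (hb : OfFour a b c d (g • b))
    (hc : OfFour a b c d (g • c)) (hd : OfFour a b c d (g • d)) : Preserves a b c d g := by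
  intro x hx
  rcases hx with rfl | rfl | rfl | rfl <;> assumption

theorem Preserves.inv [Finite G] {a b c d : α} {g : G} (hg : Preserves a b c d g) :
    Preserves a b c d g⁻¹ := by
  have hk : ∀ k : ℕ, Preserves a b c d (g ^ k) := fun k => by
    induction k with
    | zero => intro x hx; rwa [pow_zero, one_smul]
    | succ k ih => intro x hx; rw [pow_succ', mul_smul]; exact hg _ (ih x hx)
  rw [show g⁻¹ = g ^ (orderOf g - 1) from inv_eq_of_mul_eq_one_right (by
    rw [← pow_succ', Nat.sub_add_cancel (orderOf_pos g), pow_orderOf_eq_one])]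
  exact hk _

theorem Preserves.normalizes [Finite G] {a b c d : α} {g : G} (hg : Preserves a b c d g) :
    ∀ u ∈ fix4 G a b c d, g * u * g⁻¹ ∈ fix4 G a b c d ∧ g⁻¹ * u * g ∈ fix4 G a b c d := by
  intro u hu
  have key : ∀ (g : G), Preserves a b c d g → g⁻¹ * u * g ∈ fix4 G a b c d := fun g hg => by
    have : ∀ x, OfFour a b c d x → (g⁻¹ * u * g) • x = x := fun x hx => by
      rw [mul_smul, mul_smul, fix4_smul hu (hg x hx), inv_smul_smul]
    exact mem_fix4.mpr ⟨this a (by simp [OfFour]), this b (by simp [OfFour]), this c (by simp [OfFour]),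
      this d (by simp [OfFour])⟩
  exact ⟨by simpa using key g⁻¹ hg.inv, key g hg⟩

end Cfsg.Agent.PermGroups.HallFour
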