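/-
Four-transitive groups with odd stabiliser of four points have odd degree, from degree eight onwards.
-/
import Cfsg.Agent.PermGroups.HallFour.Basic
import Cfsg.Agent.PermGroups.LW.Main

set_option autoImplicit false
set_option maxHeartbeats 1000000

namespace Cfsg.Agent.PermGroups.HallFour

open MulAction
open scoped Pointwise

variable {G : Type*} [Group G] [Finite G] {α : Type*} [Fintype α] [DecidableEq α] [MulAction G α]

/-- A five element set is carried into the extension of four points by one of a given kind. -/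
theorem exists_into (h : OddFour G α) {e1 e2 e3 e4 x0 : α} (hn : [e1, e2, e3, e4].Nodup)
    (hx : ∀ z, ¬ OfFour e1 e2 e3 e4 z → ∃ k : G, Preserves e1 e2 e3 e4 k ∧ k • z = x0)
    (s : Finset α) (hs : s.card = 5) :
    ∃ g : G, ∀ y ∈ s, g • y ∈ ({e1, e2, e3, e4, x0} : Finset α) := by
  obtain ⟨e⟩ : Nonempty (↥s ≃ Fin 5) := ⟨Finset.equivFinOfCardEq hs⟩
  have hinj : Function.Injective fun i => ((e.symm i : ↥s) : α) :=
    Subtype.val_injective.comp e.symm.injective
  have hd : [((e.symm 0 : ↥s) : α), ((e.symm 1 : ↥s) : α), ((e.symm 2 : ↥s) : α),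
      ((e.symm 3 : ↥s) : α)].Nodup :=
    List.Nodup.map hinj (show ([0, 1, 2, 3] : List (Fin 5)).Nodup by decide)
  obtain ⟨g, g0, g1, g2, g3⟩ := LW.exists_map_four h.trans hd hn
  have hz : ¬ OfFour e1 e2 e3 e4 (g • ((e.symm 4 : ↥s) : α)) := by
    intro hc
    rcases hc with e' | e' | e' | e'
    · exact absurd (hinj (MulAction.injective g (e'.trans g0.symm))) (by decide)
    · exact absurd (hinj (MulAction.injective g (e'.trans g1.symm))) (by decide)
    · exact absurd (hinj (MulAction.injective g (e'.trans g2.symm))) (by decide)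
    · exact absurd (hinj (MulAction.injective g (e'.trans g3.symm))) (by decide)
  obtain ⟨k, hk, hkz⟩ := hx _ hz
  refine ⟨k * g, fun y hy => ?_⟩
  obtain ⟨i, hi⟩ := e.symm.surjective ⟨y, hy⟩
  obtain rfl : ((e.symm i : ↥s) : α) = y := congrArg Subtype.val hi
  have hmem : ∀ z, OfFour e1 e2 e3 e4 z → z ∈ ({e1, e2, e3, e4, x0} : Finset α) := fun z hz => by
    rcases hz with rfl | rfl | rfl | rfl <;> simp
  rw [mul_smul]
  fin_cases i
  · exact hmem _ (hk _ (Or.inl g0))
  · exact hmem _ (hk _ (Or.inr (Or.inl g1)))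
  · exact hmem _ (hk _ (Or.inr (Or.inr (Or.inl g2))))
  · exact hmem _ (hk _ (Or.inr (Or.inr (Or.inr g3))))
  · show k • g • ((e.symm 4 : ↥s) : α) ∈ _
    rw [hkz]; simp

theorem OddFour.no_even (h : OddFour G α) (he : Even (Fintype.card α)) (hcard : 8 ≤ Fintype.card α) :
    False := by
  classical
  obtain ⟨q⟩ : Nonempty (Fin 4 ↪ α) := Function.Embedding.nonempty_of_card_le (by simp; omega)
  obtain ⟨e1, e2, e3, e4, hn⟩ : ∃ e1 e2 e3 e4 : α, [e1, e2, e3, e4].Nodup :=
    ⟨q 0, q 1, q 2, q 3, by simp [List.nodup_cons]⟩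
  have hne : e1 ≠ e2 ∧ e1 ≠ e3 ∧ e1 ≠ e4 ∧ e2 ≠ e3 ∧ e2 ≠ e4 ∧ e3 ≠ e4 := by
    simp only [List.nodup_cons, List.mem_cons, List.not_mem_nil, or_false, not_or] at hn
    tauto
  obtain ⟨a, haa, a1, a2, a3, a4⟩ := h.exists_lift hn
  have ha1 : a ≠ 1 := fun e => hne.1 (by rw [e, one_smul] at a1; exact a1)
  have hafix := h.fixed_two he haa ha1 hne.2.2.2.2.2 a3 a4
  have hapres : Preserves e1 e2 e3 e4 a :=
    preserves_of (by simp [OfFour, a1]) (by simp [OfFour, a2]) (by simp [OfFour, a3]) (by simp [OfFour, a4])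
  have haaa : ∀ z : α, a • a • z = z := fun z => by rw [← mul_smul, haa, one_smul]
  -- the involutions attached to the remaining points
  have key : ∀ x, ¬ OfFour e1 e2 e3 e4 x → a • x ≠ x ∧ ¬ OfFour e1 e2 e3 e4 (a • x) ∧ ∃ v : G,
      v * v = 1 ∧ v • e1 = e2 ∧ v • e2 = e1 ∧ v • e3 = e4 ∧ v • e4 = e3 ∧ v • x = x ∧
        v • a • x = a • x := by
    intro x hx
    have h1 : a • x ≠ x := fun e => hx (by rcases hafix x e with rfl | rfl <;> simp [OfFour])
    have h2 : ¬ OfFour e1 e2 e3 e4 (a • x) := fun hc => hx (by simpa [haaa] using hapres _ hc)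
    refine ⟨h1, h2, ?_⟩
    simp only [OfFour, not_or] at hx h2
    obtain ⟨v, hvv, hcm, v1, v2, -, hv⟩ := h.exists_comm (a := e1) (b := e2) (c := x) (d := a • x)
      (by
        simp only [List.nodup_cons, List.mem_cons, List.not_mem_nil, or_false, not_or]
        exact ⟨⟨hne.1, Ne.symm hx.1, Ne.symm h2.1⟩, ⟨Ne.symm hx.2.1, Ne.symm h2.2.1⟩, Ne.symm h1,
          not_false, List.nodup_nil⟩) haa a1 a2 (Or.inr ⟨rfl, haaa x⟩)
    obtain ⟨vx, vax⟩ := hv rfl
    have hv1 : v ≠ 1 := fun e => hne.1 (by rw [e, one_smul] at v1; exact v1)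
    have hvfix := h.fixed_two he hvv hv1 (Ne.symm h1) vx vax
    have hcomm : ∀ z : α, a • z = z → a • v • z = v • z := fun z hz => by
      rw [← mul_smul, hcm.eq, mul_smul, hz]
    have v3 : v • e3 = e4 := by
      refine (hafix _ (hcomm _ a3)).resolve_left fun e => ?_
      rcases hvfix e3 e with e' | e'
      · exact hx.2.2.1 e'.symm
      · exact h2.2.2.1 e'.symm
    exact ⟨v, hvv, v1, v2, v3, by rw [← v3, ← mul_smul, hvv, one_smul], vx, vax⟩
  obtain ⟨x0, hx0⟩ : ∃ x, ¬ OfFour e1 e2 e3 e4 x := by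
    by_contra! hc
    have hsub : (Finset.univ : Finset α) ⊆ {e1, e2, e3, e4} := fun z _ => by
      rcases hc z with rfl | rfl | rfl | rfl <;> simp
    have := Finset.card_le_card hsub
    rw [Finset.card_univ] at this
    have := Finset.card_le_four (a := e1) (b := e2) (c := e3) (d := e4)
    omega
  obtain ⟨hax0, hax0', c, hcc, c1, c2, c3, c4, cx, cax⟩ := key x0 hx0
  have hc1 : c ≠ 1 := fun e => hne.1 (by rw [e, one_smul] at c1; exact c1)
  have hcfix := h.fixed_two he hcc hc1 (Ne.symm hax0) cx cax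
  obtain ⟨H, hH⟩ : ∃ H, H = fix4 G e1 e2 e3 e4 := ⟨_, rfl⟩
  -- at most two orbits
  have htwo : ∀ x, ¬ OfFour e1 e2 e3 e4 x → x0 ∈ orb H x ∨ a • x0 ∈ orb H x := by
    intro x hx
    obtain ⟨-, -, v, hvv, v1, v2, v3, v4, vx, -⟩ := key x hx
    have hu : c * v ∈ fix4 G e1 e2 e3 e4 := mem_fix4.mpr
      ⟨by rw [mul_smul, v1, c2], by rw [mul_smul, v2, c1], by rw [mul_smul, v3, c4], by rw [mul_smul, v4, c3]⟩
    obtain ⟨w, hw, hwv⟩ := conj_odd hcc hvv (h.orderOf_odd hn hu)
    have hwH : w ∈ H := hH ▸ Subgroup.zpowers_le.mpr hu hw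
    have hfix : c • w • x = w • x := by
      rw [← mul_smul, show c * w = w * v by rw [← hwv]; group, mul_smul, vx]
    rcases hcfix _ hfix with e | e
    · exact Or.inl (mem_orb.mpr ⟨w, hwH, e⟩)
    · exact Or.inr (mem_orb.mpr ⟨w, hwH, e⟩)
  have horb : ∀ x, ¬ OfFour e1 e2 e3 e4 x → orb H x = orb H x0 ∨ orb H x = orb H (a • x0) := fun x hx =>
    (htwo x hx).imp (fun e => (orb_eq e).symm) fun e => (orb_eq e).symm
  have hout : ∀ x, ¬ OfFour e1 e2 e3 e4 x → ∀ z ∈ orb H x, ¬ OfFour e1 e2 e3 e4 z := by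
    intro x hx z hz hc
    obtain ⟨u, hu, rfl⟩ := mem_orb.mp hz
    have := fix4_smul (hH ▸ hu) hc
    exact hx (MulAction.injective u this ▸ hc)
  set X : Finset α := Finset.univ.filter fun x => ¬ OfFour e1 e2 e3 e4 x with hX
  have hXc : X.card + 4 = Fintype.card α := by
    have h1 : (Finset.univ.filter fun x => OfFour e1 e2 e3 e4 x) = ({e1, e2, e3, e4} : Finset α) := by
      ext z; simp [OfFour]
    have h2 := Finset.card_filter_add_card_filter_not (s := (Finset.univ : Finset α))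
      (fun x => OfFour e1 e2 e3 e4 x)
    have h4 : ({e1, e2, e3, e4} : Finset α).card = 4 := by
      rw [show ({e1, e2, e3, e4} : Finset α) = [e1, e2, e3, e4].toFinset by simp,
        List.toFinset_card_of_nodup hn]
      rfl
    rw [h1, h4, Finset.card_univ] at h2
    rw [hX]; omega
  have hodd : ∀ x : α, Odd (orb H x).card := odd_card_orb (hH ▸ h.odd _ _ _ _ hn)
  have hdiff : orb H (a • x0) ≠ orb H x0 := by
    intro e
    have : X = orb H x0 := by
      ext z
      simp only [hX, Finset.mem_filter, Finset.mem_univ, true_and]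
      refine ⟨fun hz => ?_, hout x0 hx0 z⟩
      rcases horb z hz with e' | e'
      · rw [← e']; exact mem_orb_self z
      · rw [← e, ← e']; exact mem_orb_self z
    have h1 := hodd x0
    rw [← this] at h1
    obtain ⟨j, hj⟩ := h1
    obtain ⟨i, hi⟩ := he
    omega
  have hunion : X = orb H x0 ∪ orb H (a • x0) := by
    ext z
    simp only [hX, Finset.mem_filter, Finset.mem_univ, true_and, Finset.mem_union]
    refine ⟨fun hz => ?_, fun hz => hz.elim (hout x0 hx0 z) (hout _ hax0' z)⟩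
    rcases horb z hz with e | e
    · exact Or.inl (e ▸ mem_orb_self z)
    · exact Or.inr (e ▸ mem_orb_self z)
  have hdisj : Disjoint (orb H x0) (orb H (a • x0)) := Finset.disjoint_left.mpr fun z h1 h2 =>
    hdiff ((orb_eq h2).symm.trans (orb_eq h1))
  have hsize : X.card = (orb H x0).card + (orb H x0).card := by
    rw [hunion, Finset.card_union_of_disjoint hdisj, orb_smul (hH ▸ hapres.normalizes),
      Finset.card_image_of_injective _ (MulAction.injective a)]
  obtain ⟨i, hi⟩ := hodd x0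
  -- five-homogeneous without being five-transitive
  have hk : ∀ z, ¬ OfFour e1 e2 e3 e4 z → ∃ k : G, Preserves e1 e2 e3 e4 k ∧ k • z = x0 := by
    intro z hz
    have hpres : ∀ u ∈ H, Preserves e1 e2 e3 e4 u := fun u hu y hy => by
      rwa [fix4_smul (hH ▸ hu) hy]
    rcases htwo z hz with e | e
    · obtain ⟨u, hu, hu'⟩ := mem_orb.mp e
      exact ⟨u, hpres u hu, hu'⟩
    · obtain ⟨u, hu, hu'⟩ := mem_orb.mp e
      exact ⟨a * u, fun y hy => by rw [mul_smul]; exact hapres _ (hpres u hu y hy),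
        by rw [mul_smul, hu', haaa]⟩
  set S₀ : Finset α := {e1, e2, e3, e4, x0} with hS
  have hn5 : [e1, e2, e3, e4, x0].Nodup := by
    simp only [OfFour, not_or] at hx0
    simp only [List.nodup_cons, List.mem_cons, List.not_mem_nil, or_false, not_or]
    exact ⟨⟨hne.1, hne.2.1, hne.2.2.1, Ne.symm hx0.1⟩, ⟨hne.2.2.2.1, hne.2.2.2.2.1, Ne.symm hx0.2.1⟩,
      ⟨hne.2.2.2.2.2, Ne.symm hx0.2.2.1⟩, Ne.symm hx0.2.2.2, not_false, List.nodup_nil⟩
  have hS5 : S₀.card = 5 := by
    rw [hS, show ({e1, e2, e3, e4, x0} : Finset α) = [e1, e2, e3, e4, x0].toFinset by simp,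
      List.toFinset_card_of_nodup hn5]
    rfl
  have hto : ∀ s : Finset α, s.card = 5 →
      ∃ k : (MulAction.toPermHom G α).range, k • s = S₀ := by
    intro s hs
    obtain ⟨g, hg⟩ := exists_into h hn hk s hs
    refine ⟨⟨MulAction.toPermHom G α g, g, rfl⟩, ?_⟩
    refine Finset.eq_of_subset_of_card_le (fun z hz => ?_) (le_of_eq ?_)
    · obtain ⟨y, hy, rfl⟩ := Finset.mem_smul_finset.mp hz
      exact hg y hy
    · rw [Finset.card_smul_finset, hs, hS5]
  have hh : IsPretransitive (MulAction.toPermHom G α).range (Set.powersetCard α 5) := ⟨fun s t => by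
    obtain ⟨k, hk'⟩ := hto (s : Finset α) s.2
    obtain ⟨l, hl⟩ := hto (t : Finset α) t.2
    refine ⟨l⁻¹ * k, Subtype.ext ?_⟩
    change (l⁻¹ * k) • (s : Finset α) = t
    rw [mul_smul, hk', inv_smul_eq_iff, hl]⟩
  have h5 := LW.livingstone_wagner (G := (MulAction.toPermHom G α).range) (k := 5) (by norm_num)
    (by obtain ⟨j, hj⟩ := he; omega) hh
  have hn5' : [e1, e2, e3, e4, a • x0].Nodup := by
    simp only [OfFour, not_or] at hax0'
    simp only [List.nodup_cons, List.mem_cons, List.not_mem_nil, or_false, not_or]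
    exact ⟨⟨hne.1, hne.2.1, hne.2.2.1, Ne.symm hax0'.1⟩,
      ⟨hne.2.2.2.1, hne.2.2.2.2.1, Ne.symm hax0'.2.1⟩,
      ⟨hne.2.2.2.2.2, Ne.symm hax0'.2.2.1⟩, Ne.symm hax0'.2.2.2, not_false, List.nodup_nil⟩
  obtain ⟨⟨_, g, rfl⟩, hg⟩ := LW.exists_map h5 (List.nodup_iff_injective_get.1 hn5)
    (List.nodup_iff_injective_get.1 hn5')
  have hgH : g ∈ H := hH ▸ mem_fix4.mpr ⟨hg 0, hg 1, hg 2, hg 3⟩
  exact hdiff (orb_eq (mem_orb.mpr ⟨g, hgH, hg 4⟩))

end Cfsg.Agent.PermGroups.HallFour
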