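/-
Four-transitive groups with odd stabiliser of four points: the stabiliser fixing a fifth point.
-/
import Cfsg.Agent.PermGroups.HallFour.Basic
import Cfsg.Agent.PermGroups.LW.Small
import Cfsg.Agent.Coprime.Generation

set_option autoImplicit false
set_option maxHeartbeats 1000000

namespace Cfsg.Agent.PermGroups.HallFour

open MulAction

variable {G : Type*} [Group G] [Finite G] {α : Type*} [Fintype α] [DecidableEq α] [MulAction G α]

variable (G) in
/-- The points fixed by the stabiliser of four points. -/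
noncomputable def fs (a b c d : α) : Finset α :=
  haveI := Classical.decPred fun x : α => ∀ u ∈ fix4 G a b c d, u • x = x
  Finset.univ.filter fun x => ∀ u ∈ fix4 G a b c d, u • x = x

omit [Finite G] [DecidableEq α] in
theorem mem_fs {a b c d x : α} : x ∈ fs G a b c d ↔ ∀ u ∈ fix4 G a b c d, u • x = x := by
  simp [fs]

omit [Finite G] [DecidableEq α] in
theorem ofFour_mem_fs {a b c d x : α} (hx : OfFour a b c d x) : x ∈ fs G a b c d :=
  mem_fs.mpr fun _ hu => fix4_smul hu hx

omit [DecidableEq α] in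
theorem smul_mem_fs {a b c d : α} {g : G} (hg : Preserves a b c d g) {x : α} (hx : x ∈ fs G a b c d) :
    g • x ∈ fs G a b c d := mem_fs.mpr fun u hu => by
  have := mem_fs.mp hx _ (hg.normalizes u hu).2
  rwa [mul_smul, mul_smul, inv_smul_eq_iff] at this

omit [Finite G] in
theorem fs_smul (g : G) (a b c d : α) :
    fs G (g • a) (g • b) (g • c) (g • d) = (fs G a b c d).image (g • ·) := by
  ext z
  simp only [mem_fs, Finset.mem_image]
  constructor
  · intro hz
    refine ⟨g⁻¹ • z, fun u hu => ?_, smul_inv_smul g z⟩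
    have := hz _ (conj_mem_fix4 hu g)
    rw [mul_smul, mul_smul, smul_eq_iff_eq_inv_smul] at this
    exact this
  · rintro ⟨y, hy, rfl⟩ u hu
    have h2 := conj_mem_fix4 hu g⁻¹
    simp only [inv_smul_smul, inv_inv] at h2
    have := hy _ h2
    rwa [mul_smul, mul_smul, inv_smul_eq_iff] at this

omit [DecidableEq α] in
/-- An invariant set of odd size containing two fixed points contains the third. -/
theorem third_mem [DecidableEq α] {t : G} (htt : t * t = 1) {s : Finset α} (hs : ∀ x ∈ s, t • x ∈ s)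
    (ho : Odd s.card) {c d p : α} (hcd : c ≠ d) (hc : c ∈ s) (hd : d ∈ s) (htc : t • c = c)
    (htd : t • d = d) (hp : ∀ z, t • z = z → z = c ∨ z = d ∨ z = p) : p ∈ s := by
  have hsub : ({c, d} : Finset α) ⊆ s.filter fun x => t • x = x := by
    intro x hx
    simp only [Finset.mem_insert, Finset.mem_singleton] at hx
    rcases hx with rfl | rfl <;> simp [*]
  have hne : (s.filter fun x => t • x = x) ≠ {c, d} := fun e => by
    have := (odd_fixed_iff htt s hs).mpr ho
    rw [e, Finset.card_pair hcd] at this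
    exact absurd this (by decide)
  obtain ⟨w, hw, hw'⟩ := Finset.exists_of_ssubset (hsub.ssubset_of_ne hne.symm)
  simp only [Finset.mem_insert, Finset.mem_singleton, not_or] at hw'
  obtain ⟨hws, hwt⟩ := Finset.mem_filter.mp hw
  rcases hp w hwt with e | e | e
  · exact absurd e hw'.1
  · exact absurd e hw'.2
  · exact e ▸ hws

omit [Finite G] in
/-- An element of odd order acting semiregularly on two or eight points fixes them. -/
theorem eq_of_semiregular {w : G} (hodd : Odd (orderOf w)) (W : Finset α)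
    (hW : ∀ z ∈ W, w • z ∈ W) (hcard : W.card = 2 ∨ W.card = 8)
    (hsemi : ∀ k : ℕ, ∀ z ∈ W, w ^ k • z = z → ∀ y ∈ W, w ^ k • y = y) {x : α} (hx : x ∈ W) :
    w • x = x := by
  obtain ⟨σ, hσ⟩ : ∃ σ : Equiv.Perm ↥W, ∀ z : ↥W, (σ z : α) = w • (z : α) :=
    ⟨Equiv.ofBijective (fun z => ⟨w • (z : α), hW z z.2⟩) ((Finite.injective_iff_bijective).mp
      fun a b e => Subtype.ext (MulAction.injective w (Subtype.ext_iff.mp e))), fun z => rfl⟩
  have hpow : ∀ (k : ℕ) (z : ↥W), ((σ ^ k) z : α) = w ^ k • (z : α) := fun k => by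
    induction k with
    | zero => simp
    | succ k ih => intro z; rw [pow_succ, pow_succ, Equiv.Perm.mul_apply, ih, hσ, mul_smul]
  have hs : LW.Semifix (Subgroup.zpowers σ) (↥W) 0 := by
    rintro ⟨g, hg⟩ s hs hfix
    obtain ⟨k, rfl⟩ := (isOfFinOrder_of_finite σ).mem_powers_iff_mem_zpowers.mpr hg
    obtain ⟨z, hz⟩ := Finset.card_pos.mp hs
    have h1 : w ^ k • (z : α) = z := by
      rw [← hpow]
      exact Subtype.ext_iff.mp (hfix z hz)
    refine Subtype.ext (Equiv.ext fun y => Subtype.ext ?_)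
    exact (hpow k y).trans (hsemi k z z.2 h1 y y.2)
  have hd := LW.card_dvd_of_semifix hs
  rw [Nat.card_zpowers, Nat.card_eq_finsetCard] at hd
  have hdw : orderOf σ ∣ orderOf w := orderOf_dvd_of_pow_eq_one (Equiv.ext fun y => Subtype.ext (by
    rw [hpow, pow_orderOf_eq_one, one_smul]; rfl))
  have hsodd := hodd.of_dvd_nat hdw
  have h8 : orderOf σ ∣ 2 ^ 3 := by
    rcases hcard with e | e <;> rw [e] at hd
    · exact hd.trans (by norm_num)
    · simpa using hd
  obtain ⟨i, -, hi⟩ := (Nat.dvd_prime_pow Nat.prime_two).mp h8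
  have h1 : σ = 1 := by
    rw [← orderOf_eq_one_iff, hi]
    rcases Nat.eq_zero_or_pos i with e | e
    · rw [e, pow_zero]
    · rw [hi] at hsodd
      exact absurd (even_two.pow_of_ne_zero e.ne') (Nat.not_even_iff_odd.mpr hsodd)
  have := hσ ⟨x, hx⟩
  rw [h1] at this
  exact this.symm

namespace OddFour

variable (h : OddFour G α)
include h

omit [DecidableEq α] in
theorem card_fix4_eq {a b c d a' b' c' d' : α} (hn : [a, b, c, d].Nodup)
    (hn' : [a', b', c', d'].Nodup) :
    Nat.card (fix4 G a b c d) = Nat.card (fix4 G a' b' c' d') := by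
  rw [fix4_eq_stabilizer hn, fix4_eq_stabilizer hn']
  exact LW.card_stabilizer_eq h.trans (by simpa using hn.length_le_card) _ _

omit [DecidableEq α] in
theorem fix4_eq_of_mem {a b c d a' b' c' d' : α} (hn : [a, b, c, d].Nodup)
    (hn' : [a', b', c', d'].Nodup) (ha : a' ∈ fs G a b c d) (hb : b' ∈ fs G a b c d)
    (hc : c' ∈ fs G a b c d) (hd : d' ∈ fs G a b c d) :
    fix4 G a' b' c' d' = fix4 G a b c d := by
  refine (Subgroup.eq_of_le_of_card_ge (fun u hu => mem_fix4.mpr ?_) (le_of_eq ?_)).symm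
  · exact ⟨mem_fs.mp ha u hu, mem_fs.mp hb u hu, mem_fs.mp hc u hu, mem_fs.mp hd u hu⟩
  · exact h.card_fix4_eq hn' hn

theorem card_fs_eq {a b c d a' b' c' d' : α} (hn : [a, b, c, d].Nodup)
    (hn' : [a', b', c', d'].Nodup) : (fs G a b c d).card = (fs G a' b' c' d').card := by
  obtain ⟨g, rfl, rfl, rfl, rfl⟩ := LW.exists_map_four h.trans hn hn'
  rw [fs_smul, Finset.card_image_of_injective _ (MulAction.injective g)]

/-- The fixed points of a stabiliser of four points carry a sharply four-transitive group. -/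
theorem fs_card_cases {a b c d : α} (hn : [a, b, c, d].Nodup) (h5 : 5 ≤ (fs G a b c d).card) :
    (fs G a b c d).card = 5 ∨ (fs G a b c d).card = 6 ∨ (fs G a b c d).card = 11 := by
  by_cases h7 : (fs G a b c d).card < 7
  · omega
  right; right
  let K : Subgroup (Equiv.Perm ↥(fs G a b c d)) :=
    { carrier := {σ | ∃ g : G, ∀ x : ↥(fs G a b c d), g • (x : α) = σ x}
      one_mem' := ⟨1, fun x => one_smul G (x : α)⟩
      mul_mem' := by
        rintro σ τ ⟨g, hg⟩ ⟨g', hg'⟩
        exact ⟨g * g', fun x => by rw [mul_smul, hg', hg]; rfl⟩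
      inv_mem' := by
        rintro σ ⟨g, hg⟩
        refine ⟨g⁻¹, fun x => ?_⟩
        rw [inv_smul_eq_iff, hg]
        simp }
  have hq : ∀ x : Fin 4 ↪ ↥(fs G a b c d),
      fix4 G (x 0 : α) (x 1) (x 2) (x 3) = fix4 G a b c d := fun x =>
    h.fix4_eq_of_mem hn (List.Nodup.map (f := fun i => (x i : α)) (Subtype.val_injective.comp x.injective)
      (show ([0, 1, 2, 3] : List (Fin 4)).Nodup by decide)) (x 0).2 (x 1).2 (x 2).2 (x 3).2
  have ht : IsMultiplyPretransitive K ↥(fs G a b c d) 4 := isMultiplyPretransitive_iff.mpr fun x y => by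
    obtain ⟨g, hg⟩ := LW.exists_map h.trans (a := fun i => (x i : α)) (b := fun i => (y i : α))
      (Subtype.val_injective.comp x.injective) (Subtype.val_injective.comp y.injective)
    have hgF : ∀ z ∈ fs G a b c d, g • z ∈ fs G a b c d := fun z hz => mem_fs.mpr fun u hu => by
      rw [← hq y, ← hg 0, ← hg 1, ← hg 2, ← hg 3] at hu
      have h2 := conj_mem_fix4 hu g⁻¹
      simp only [inv_smul_smul, inv_inv] at h2
      have := mem_fs.mp hz _ (hq x ▸ h2)
      rwa [mul_smul, mul_smul, inv_smul_eq_iff] at this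
    let σ : Equiv.Perm ↥(fs G a b c d) :=
      Equiv.ofBijective (fun z => ⟨g • (z : α), hgF z z.2⟩) ((Finite.injective_iff_bijective).mp
        fun p q e => Subtype.ext (MulAction.injective g (Subtype.ext_iff.mp e)))
    refine ⟨⟨σ, g, fun z => rfl⟩, Function.Embedding.ext fun i => Subtype.ext ?_⟩
    exact hg i
  have hs : ∀ x : Fin 4 ↪ ↥(fs G a b c d), stabilizer K x = ⊥ := fun x => by
    refine (Subgroup.eq_bot_iff_forall _).mpr ?_
    rintro ⟨σ, g, hg⟩ hσ
    have hfix : ∀ i, σ (x i) = x i := fun i => DFunLike.congr_fun hσ i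
    have hgH : g ∈ fix4 G a b c d := hq x ▸ mem_fix4.mpr
      ⟨by rw [hg, hfix], by rw [hg, hfix], by rw [hg, hfix], by rw [hg, hfix]⟩
    refine Subtype.ext (Equiv.ext fun z => Subtype.ext ?_)
    exact (hg z).symm.trans (mem_fs.mp z.2 g hgH)
  have := SharplyTransitive.jordan4 ht hs (by rw [Fintype.card_coe]; omega)
  rwa [Fintype.card_coe] at this

/-- With five or eleven fixed points everywhere a stabiliser centralises transpositions. -/
theorem centralises [FaithfulSMul G α] (ho : Odd (Fintype.card α))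
    (hf : ∀ a b c d : α, [a, b, c, d].Nodup → (fs G a b c d).card = 5 ∨ (fs G a b c d).card = 11)
    {d1 d2 d3 d4 : α} (hn : [d1, d2, d3, d4].Nodup) {t : G} (htt : t * t = 1) (t1 : t • d1 = d1)
    (t2 : t • d2 = d2) (t3 : t • d3 = d4) (t4 : t • d4 = d3) {u : G}
    (hu : u ∈ fix4 G d1 d2 d3 d4) : u * t = t * u := by
  have hne : d1 ≠ d2 ∧ d3 ≠ d4 := by
    simp only [List.nodup_cons, List.mem_cons, List.not_mem_nil, or_false, not_or] at hn
    tauto
  have ht1 : t ≠ 1 := fun e => hne.2 (by rw [e, one_smul] at t3; exact t3)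
  obtain ⟨p, hp1, hp2, htp, hpfix⟩ := h.exists_third ho htt ht1 hne.1 t1 t2
  have hoddf : ∀ a b c d : α, [a, b, c, d].Nodup → Odd (fs G a b c d).card := fun a b c d hn' => by
    rcases hf a b c d hn' with e | e <;> rw [e] <;> decide
  have hpF : p ∈ fs G d1 d2 d3 d4 := third_mem htt (fun x hx => smul_mem_fs (preserves_of
    (by simp [OfFour, t1]) (by simp [OfFour, t2]) (by simp [OfFour, t3]) (by simp [OfFour, t4])) hx)
    (hoddf _ _ _ _ hn) hne.1 (ofFour_mem_fs (by simp [OfFour])) (ofFour_mem_fs (by simp [OfFour]))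
    t1 t2 hpfix
  obtain ⟨hu1, hu2, hu3, hu4⟩ := mem_fix4.mp hu
  have hup : u • p = p := mem_fs.mp hpF u hu
  have hui : ∀ z : α, u • z = z → u⁻¹ • z = z := fun z e => inv_smul_eq_iff.mpr e.symm
  obtain ⟨t', ht'⟩ : ∃ t', t' = u * t * u⁻¹ := ⟨_, rfl⟩
  have ht't' : t' * t' = 1 := by
    rw [ht', show u * t * u⁻¹ * (u * t * u⁻¹) = u * (t * t) * u⁻¹ by group, htt]; group
  have t'1 : t' • d1 = d1 := by rw [ht', mul_smul, mul_smul, hui _ hu1, t1, hu1]
  have t'2 : t' • d2 = d2 := by rw [ht', mul_smul, mul_smul, hui _ hu2, t2, hu2]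
  have t'p : t' • p = p := by rw [ht', mul_smul, mul_smul, hui _ hup, htp, hup]
  have hwH : t * t' ∈ fix4 G d1 d2 d3 d4 := mem_fix4.mpr
    ⟨by rw [mul_smul, t'1, t1], by rw [mul_smul, t'2, t2],
      by rw [ht', mul_smul, mul_smul, mul_smul, hui _ hu3, t3, hu4, t4],
      by rw [ht', mul_smul, mul_smul, mul_smul, hui _ hu4, t4, hu3, t3]⟩
  have ht'fix : ∀ z, t' • z = z → z = d1 ∨ z = d2 ∨ z = p := fun z hz => by
    rw [ht', mul_smul, mul_smul, ← eq_inv_smul_iff] at hz
    rcases hpfix _ hz with e | e | e <;> rw [inv_smul_eq_iff] at e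
    · exact Or.inl (e.trans hu1)
    · exact Or.inr (Or.inl (e.trans hu2))
    · exact Or.inr (Or.inr (e.trans hup))
  have hfix : t * t' = 1 := by
    refine FaithfulSMul.eq_of_smul_eq_smul (α := α) fun x => ?_
    rw [one_smul]
    by_cases hxF : x ∈ fs G d1 d2 d3 d4
    · exact mem_fs.mp hxF _ hwH
    have hx : x ≠ d1 ∧ x ≠ d2 ∧ x ≠ p := ⟨fun e => hxF (e ▸ ofFour_mem_fs (by simp [OfFour])),
      fun e => hxF (e ▸ ofFour_mem_fs (by simp [OfFour])), fun e => hxF (e ▸ hpF)⟩
    have hxn : [d1, d2, x, p].Nodup := by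
      simp [List.nodup_cons, hne.1, Ne.symm hx.1, Ne.symm hx.2.1, Ne.symm hp1, Ne.symm hp2, hx.2.2]
    have key : ∀ s : G, s * s = 1 → s • d1 = d1 → s • d2 = d2 →
        (∀ z, s • z = z → z = d1 ∨ z = d2 ∨ z = p) →
        p ∈ fs G d1 d2 x (s • x) ∧ fix4 G d1 d2 x p = fix4 G d1 d2 x (s • x) ∧
          ∀ z ∈ fs G d1 d2 x (s • x), s • z ∈ fs G d1 d2 x (s • x) := by
      intro s hss s1 s2 hsfix
      have hsx : s • x ≠ x := fun e => by
        rcases hsfix x e with e | e | e
        exacts [hx.1 e, hx.2.1 e, hx.2.2 e]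
      have hsn : [d1, d2, x, s • x].Nodup := by
        simp only [List.nodup_cons, List.mem_cons, List.not_mem_nil, or_false, not_or]
        refine ⟨⟨hne.1, Ne.symm hx.1, fun e => hx.1 ?_⟩, ⟨Ne.symm hx.2.1, fun e => hx.2.1 ?_⟩,
          Ne.symm hsx, not_false, List.nodup_nil⟩
        · exact MulAction.injective s (e.symm.trans s1.symm)
        · exact MulAction.injective s (e.symm.trans s2.symm)
      have hpres : ∀ z ∈ fs G d1 d2 x (s • x), s • z ∈ fs G d1 d2 x (s • x) := fun z hz =>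
        smul_mem_fs (preserves_of (by simp [OfFour, s1]) (by simp [OfFour, s2]) (by simp [OfFour])
          (by simp [OfFour, ← mul_smul, hss])) hz
      have hpm : p ∈ fs G d1 d2 x (s • x) := third_mem hss hpres (hoddf _ _ _ _ hsn) hne.1
        (ofFour_mem_fs (by simp [OfFour])) (ofFour_mem_fs (by simp [OfFour])) s1 s2 hsfix
      exact ⟨hpm, h.fix4_eq_of_mem hsn hxn (ofFour_mem_fs (by simp [OfFour]))
        (ofFour_mem_fs (by simp [OfFour])) (ofFour_mem_fs (by simp [OfFour])) hpm, hpres⟩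
    obtain ⟨-, e1, hW1⟩ := key t htt t1 t2 hpfix
    obtain ⟨-, e2, hW2⟩ := key t' ht't' t'1 t'2 ht'fix
    have hW : ∀ z, (z ∈ fs G d1 d2 x (t • x) ↔ z ∈ fs G d1 d2 x p) ∧
        (z ∈ fs G d1 d2 x (t' • x) ↔ z ∈ fs G d1 d2 x p) := fun z => by
      simp only [mem_fs, ← e1, ← e2, iff_self, and_self]
    set W := fs G d1 d2 x p \ {d1, d2, p} with hWdef
    have hmem : ∀ z, z ∈ W ↔ z ∈ fs G d1 d2 x p ∧ z ≠ d1 ∧ z ≠ d2 ∧ z ≠ p := fun z => by
      simp [hWdef]
    refine eq_of_semiregular (h.orderOf_odd hn hwH) W (fun z hz => ?_) ?_ ?_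
      ((hmem x).mpr ⟨ofFour_mem_fs (by simp [OfFour]), hx⟩)
    · obtain ⟨hz0, hz1, hz2, hz3⟩ := (hmem z).mp hz
      refine (hmem _).mpr ⟨?_, fun e => hz1 ?_, fun e => hz2 ?_, fun e => hz3 ?_⟩
      · rw [mul_smul]
        exact ((hW _).1).mp (hW1 _ (((hW _).1).mpr (((hW _).2).mp (hW2 z (((hW z).2).mpr hz0)))))
      · exact MulAction.injective (t * t') (e.trans (by simp [mul_smul, t'1, t1]))
      · exact MulAction.injective (t * t') (e.trans (by simp [mul_smul, t'2, t2]))
      · exact MulAction.injective (t * t') (e.trans (by simp [mul_smul, t'p, htp]))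
    · have hc : W.card + 3 = (fs G d1 d2 x p).card := by
        have h3 : ({d1, d2, p} : Finset α).card = 3 :=
          Finset.card_eq_three.mpr ⟨_, _, _, hne.1, Ne.symm hp1, Ne.symm hp2, rfl⟩
        rw [hWdef, ← h3]
        refine Finset.card_sdiff_add_card_eq_card fun z hz => ?_
        simp only [Finset.mem_insert, Finset.mem_singleton] at hz
        rcases hz with rfl | rfl | rfl <;> exact ofFour_mem_fs (by simp [OfFour])
      rcases hf _ _ _ _ hxn with e | e <;> omega
    · intro k z hz hkz y hy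
      obtain ⟨hz0, hz1, hz2, hz3⟩ := (hmem z).mp hz
      have hzn : [d1, d2, p, z].Nodup := by
        simp [List.nodup_cons, hne.1, Ne.symm hp1, Ne.symm hp2, Ne.symm hz1, Ne.symm hz2, Ne.symm hz3]
      have he : fix4 G d1 d2 p z = fix4 G d1 d2 x p := h.fix4_eq_of_mem hxn hzn
        (ofFour_mem_fs (by simp [OfFour])) (ofFour_mem_fs (by simp [OfFour]))
        (ofFour_mem_fs (by simp [OfFour])) hz0
      have hk : (t * t') ^ k ∈ fix4 G d1 d2 x p := he ▸ mem_fix4.mpr
        ⟨fix4_smul (Subgroup.pow_mem _ hwH k) (by simp [OfFour]),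
          fix4_smul (Subgroup.pow_mem _ hwH k) (by simp [OfFour]),
          mem_fs.mp hpF _ (Subgroup.pow_mem _ hwH k), hkz⟩
      exact mem_fs.mp ((hmem y).mp hy).1 _ hk
  have : t' = t := by
    rw [← one_mul t', ← htt, mul_assoc, hfix, mul_one]
  rw [ht', mul_inv_eq_iff_eq_mul] at this
  exact this

end OddFour

/-- Two commuting transpositions on four points and their common fixed point. -/
structure Frame (e1 e2 e3 e4 p : α) (a b : G) : Prop where
  nodup : [e1, e2, e3, e4].Nodup
  out : ¬ OfFour e1 e2 e3 e4 p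
  aa : a * a = 1
  bb : b * b = 1
  comm : Commute a b
  a1 : a • e1 = e2
  a2 : a • e2 = e1
  a3 : a • e3 = e3
  a4 : a • e4 = e4
  ap : a • p = p
  b1 : b • e1 = e1
  b2 : b • e2 = e2
  b3 : b • e3 = e4
  b4 : b • e4 = e3
  bp : b • p = p
  afix : ∀ z, a • z = z → z = e3 ∨ z = e4 ∨ z = p
  bfix : ∀ z, b • z = z → z = e1 ∨ z = e2 ∨ z = p

namespace OddFour

variable (h : OddFour G α)
include h

theorem exists_frame (ho : Odd (Fintype.card α)) {e1 e2 e3 e4 : α} (hn : [e1, e2, e3, e4].Nodup) :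
    ∃ (a b : G) (p : α), Frame e1 e2 e3 e4 p a b := by
  have hne : e1 ≠ e2 ∧ e1 ≠ e3 ∧ e1 ≠ e4 ∧ e2 ≠ e3 ∧ e2 ≠ e4 ∧ e3 ≠ e4 := by
    simp only [List.nodup_cons, List.mem_cons, List.not_mem_nil, or_false, not_or] at hn
    tauto
  obtain ⟨a, haa, a1, a2, a3, a4⟩ := h.exists_lift hn
  obtain ⟨v, hvv, hcm, v1, v2, hv, -⟩ := h.exists_comm hn haa a1 a2 (Or.inl ⟨a3, a4⟩)
  obtain ⟨v3, v4⟩ := hv a3
  have ha1 : a ≠ 1 := fun e => hne.1 (by rw [e, one_smul] at a1; exact a1)
  obtain ⟨p, hp3, hp4, hap, hafix⟩ := h.exists_third ho haa ha1 hne.2.2.2.2.2 a3 a4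
  have b1 : (a * v) • e1 = e1 := by rw [mul_smul, v1, a2]
  have b2 : (a * v) • e2 = e2 := by rw [mul_smul, v2, a1]
  have b3 : (a * v) • e3 = e4 := by rw [mul_smul, v3, a4]
  have b4 : (a * v) • e4 = e3 := by rw [mul_smul, v4, a3]
  have hbb : a * v * (a * v) = 1 := by
    rw [mul_assoc, ← mul_assoc v a, ← hcm.eq, mul_assoc a v v, hvv, mul_one, haa]
  have hcab : Commute a (a * v) := (Commute.refl a).mul_right hcm
  have hb1 : a * v ≠ 1 := fun e => hne.2.2.2.2.2 (by rw [e, one_smul] at b3; exact b3)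
  have hbp : (a * v) • p = p := by
    have h1 : a • (a * v) • p = (a * v) • p := by rw [← mul_smul, hcab.eq, mul_smul, hap]
    rcases hafix _ h1 with e | e | e
    · exact absurd (MulAction.injective (a * v) (e.trans b4.symm)) hp4
    · exact absurd (MulAction.injective (a * v) (e.trans b3.symm)) hp3
    · exact e
  have hp1 : p ≠ e1 := fun e => hne.1 (by rw [e, a1] at hap; exact hap.symm)
  have hp2 : p ≠ e2 := fun e => hne.1 (by rw [e, a2] at hap; exact hap)
  obtain ⟨r, -, -, -, hbfix⟩ := h.exists_third ho hbb hb1 hne.1 b1 b2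
  have hr : p = r := by
    rcases hbfix p hbp with e | e | e
    · exact absurd e hp1
    · exact absurd e hp2
    · exact e
  exact ⟨a, a * v, p, ⟨hn, by simp [OfFour, hp1, hp2, hp3, hp4], haa, hbb, hcab, a1, a2, a3, a4, hap,
    b1, b2, b3, b4, hbp, hafix, hr ▸ hbfix⟩⟩

omit [Fintype α] [DecidableEq α] in
/-- The stabiliser fixes the common fixed point if the centraliser of the product does. -/
theorem fixes_third {e1 e2 e3 e4 p : α} {a b : G} (F : Frame e1 e2 e3 e4 p a b)
    (hc : ∀ u ∈ fix4 G e1 e2 e3 e4, u * (a * b) = a * b * u → u • p = p) :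
    ∀ u ∈ fix4 G e1 e2 e3 e4, u • p = p := by
  set H := fix4 G e1 e2 e3 e4 with hH
  obtain ⟨hp1, hp2, hp3, hp4⟩ : p ≠ e1 ∧ p ≠ e2 ∧ p ≠ e3 ∧ p ≠ e4 := by
    simpa [OfFour, not_or] using F.out
  have hne : e1 ≠ e2 ∧ e3 ≠ e4 := by
    have := F.nodup
    simp only [List.nodup_cons, List.mem_cons, List.not_mem_nil, or_false, not_or] at this
    tauto
  have hab : a * b * (a * b) = 1 := by
    rw [mul_assoc, ← mul_assoc b a, ← F.comm.eq, mul_assoc a b b, F.bb, mul_one, F.aa]
  let A : Subgroup G :=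
    { carrier := {z | z = 1 ∨ z = a ∨ z = b ∨ z = a * b}
      one_mem' := Or.inl rfl
      mul_mem' := by
        have e1' : a * (a * b) = b := by rw [← mul_assoc, F.aa, one_mul]
        have e2' : b * a = a * b := F.comm.eq.symm
        have e3' : b * (a * b) = a := by rw [← mul_assoc, e2', mul_assoc, F.bb, mul_one]
        have e4' : a * b * a = b := by rw [mul_assoc, e2', e1']
        have e5' : a * b * b = a := by rw [mul_assoc, F.bb, mul_one]
        intro y z hy hz
        simp only [Set.mem_ofPred_eq] at hy hz ⊢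
        rcases hy with rfl | rfl | rfl | rfl <;> rcases hz with rfl | rfl | rfl | rfl <;>
          simp [F.aa, F.bb, hab, e1', e2', e3', e4', e5']
      inv_mem' := by
        intro z hz
        simp only [Set.mem_ofPred_eq] at hz ⊢
        rcases hz with rfl | rfl | rfl | rfl
        · simp
        · exact Or.inr (Or.inl (inv_eq_of_mul_eq_one_right F.aa))
        · exact Or.inr (Or.inr (Or.inl (inv_eq_of_mul_eq_one_right F.bb)))
        · exact Or.inr (Or.inr (Or.inr (inv_eq_of_mul_eq_one_right hab))) }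
  have hAm : ∀ z, z ∈ A → z = 1 ∨ z = a ∨ z = b ∨ z = a * b := fun z hz => hz
  have hsq : ∀ z ∈ A, z * z = 1 := fun z hz => by
    rcases hAm z hz with rfl | rfl | rfl | rfl
    exacts [one_mul 1, F.aa, F.bb, hab]
  have : IsMulCommutative A := ⟨⟨fun y z => Subtype.ext (by
    have hi : ∀ w ∈ A, w⁻¹ = w := fun w hw => inv_eq_of_mul_eq_one_right (hsq w hw)
    have h3 := hi _ (A.mul_mem y.2 z.2)
    rw [mul_inv_rev, hi _ y.2, hi _ z.2] at h3
    exact h3.symm)⟩⟩
  have hA : ¬ IsCyclic A := by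
    intro hcy
    obtain ⟨g, hg⟩ := hcy.exists_generator
    have hg2 : ∀ z : A, z = 1 ∨ z = g := fun z => by
      obtain ⟨k, rfl⟩ := (isOfFinOrder_of_finite g).mem_powers_iff_mem_zpowers.mpr (hg z)
      show g ^ k = 1 ∨ g ^ k = g
      induction k with
      | zero => exact Or.inl (pow_zero g)
      | succ k ih =>
        rcases ih with e | e
        · exact Or.inr (by rw [pow_succ, e, one_mul])
        · exact Or.inl (by rw [pow_succ, e]; exact Subtype.ext (hsq g g.2))
    have hva : a ≠ 1 := fun e => hne.1 (by have := F.a1; rwa [e, one_smul] at this)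
    have hvb : b ≠ 1 := fun e => hne.2 (by have := F.b3; rwa [e, one_smul] at this)
    have hab' : a ≠ b := fun e => hne.1 (F.b1.symm.trans (by rw [← e]; exact F.a1))
    rcases hg2 ⟨a, Or.inr (Or.inl rfl)⟩ with e | e
    · exact hva (congrArg Subtype.val e)
    rcases hg2 ⟨b, Or.inr (Or.inr (Or.inl rfl))⟩ with e' | e'
    · exact hvb (congrArg Subtype.val e')
    exact hab' (congrArg Subtype.val (e.trans e'.symm))
  have pa : Preserves e1 e2 e3 e4 a := preserves_of (by simp [OfFour, F.a1]) (by simp [OfFour, F.a2])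
    (by simp [OfFour, F.a3]) (by simp [OfFour, F.a4])
  have pb : Preserves e1 e2 e3 e4 b := preserves_of (by simp [OfFour, F.b1]) (by simp [OfFour, F.b2])
    (by simp [OfFour, F.b3]) (by simp [OfFour, F.b4])
  have hAH : A ≤ Subgroup.normalizer (H : Set G) := by
    intro z hz
    have hp : Preserves e1 e2 e3 e4 z := by
      rcases hAm z hz with rfl | rfl | rfl | rfl
      · intro x hx; rwa [one_smul]
      · exact pa
      · exact pb
      · intro x hx; rw [mul_smul]; exact pa _ (pb _ hx)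
    refine Subgroup.mem_normalizer_iff.mpr fun u => ⟨fun hu => (hp.normalizes u hu).1, fun hu => ?_⟩
    have := (hp.normalizes _ hu).2
    rwa [show z⁻¹ * (z * u * z⁻¹) * z = u by group] at this
  have hcop : (Nat.card A).Coprime (Nat.card H) := Nat.coprime_of_dvd fun r hr h1 h2 => by
    have := Fact.mk hr
    obtain ⟨z, hz⟩ := exists_prime_orderOf_dvd_card' r h1
    have h3 : r ∣ 2 := hz ▸ orderOf_dvd_of_pow_eq_one (by rw [pow_two]; exact Subtype.ext (hsq z z.2))
    have hr2 := (Nat.prime_dvd_prime_iff_eq hr Nat.prime_two).mp h3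
    subst hr2
    exact Nat.not_even_iff_odd.mpr (h.odd _ _ _ _ F.nodup) (even_iff_two_dvd.mpr h2)
  intro u hu
  have hu' : u ∈ H := hu
  rw [← Coprime.iSup_centralizer_eq hA hAH hcop] at hu'
  refine mem_stabilizer_iff.mp ((?_ : _ ≤ stabilizer G p) hu')
  refine iSup₂_le fun z hz w hw => ?_
  obtain ⟨hwH, hwz⟩ := Subgroup.mem_inf.mp hw
  rw [Subgroup.mem_centralizer_singleton_iff] at hwz
  rw [mem_stabilizer_iff]
  rcases hAm z hz.1 with rfl | rfl | rfl | rfl
  · exact absurd rfl hz.2
  · have h1 : z • w • p = w • p := by rw [← mul_smul, ← hwz, mul_smul, F.ap]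
    rcases F.afix _ h1 with e | e | e
    · exact absurd (MulAction.injective w (e.trans (fix4_smul hwH (by simp [OfFour])).symm)) hp3
    · exact absurd (MulAction.injective w (e.trans (fix4_smul hwH (by simp [OfFour])).symm)) hp4
    · exact e
  · have h1 : z • w • p = w • p := by rw [← mul_smul, ← hwz, mul_smul, F.bp]
    rcases F.bfix _ h1 with e | e | e
    · exact absurd (MulAction.injective w (e.trans (fix4_smul hwH (by simp [OfFour])).symm)) hp1
    · exact absurd (MulAction.injective w (e.trans (fix4_smul hwH (by simp [OfFour])).symm)) hp2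
    · exact e
  · exact hc w hwH hwz

/-- If a stabiliser of four points fixes a further point it is trivial. -/
theorem bot_of_fixed [FaithfulSMul G α] (ho : Odd (Fintype.card α)) {e1 e2 e3 e4 q : α}
    (hn : [e1, e2, e3, e4].Nodup) (hqout : ¬ OfFour e1 e2 e3 e4 q)
    (hq : q ∈ fs G e1 e2 e3 e4) : fix4 G e1 e2 e3 e4 = ⊥ := by
  obtain ⟨a, b, p, F⟩ := h.exists_frame ho hn
  obtain ⟨hp1, hp2, hp3, hp4⟩ : p ≠ e1 ∧ p ≠ e2 ∧ p ≠ e3 ∧ p ≠ e4 := by
    simpa [OfFour, not_or] using F.out
  have hne : e1 ≠ e2 ∧ e1 ≠ e3 ∧ e1 ≠ e4 ∧ e2 ≠ e3 ∧ e2 ≠ e4 ∧ e3 ≠ e4 := by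
    simp only [List.nodup_cons, List.mem_cons, List.not_mem_nil, or_false, not_or] at hn
    tauto
  set S := fs G e1 e2 e3 e4 with hS
  have pa : Preserves e1 e2 e3 e4 a := preserves_of (by simp [OfFour, F.a1]) (by simp [OfFour, F.a2])
    (by simp [OfFour, F.a3]) (by simp [OfFour, F.a4])
  have pb : Preserves e1 e2 e3 e4 b := preserves_of (by simp [OfFour, F.b1]) (by simp [OfFour, F.b2])
    (by simp [OfFour, F.b3]) (by simp [OfFour, F.b4])
  have hsub : ({e1, e2, e3, e4} : Finset α) ⊆ S := fun x hx => by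
    simp only [Finset.mem_insert, Finset.mem_singleton] at hx
    exact ofFour_mem_fs hx
  have h4 : ({e1, e2, e3, e4} : Finset α).card = 4 := by
    rw [show ({e1, e2, e3, e4} : Finset α) = [e1, e2, e3, e4].toFinset by simp,
      List.toFinset_card_of_nodup hn]
    rfl
  have h5 : 5 ≤ S.card := by
    have : ({e1, e2, e3, e4} : Finset α) ⊂ S := Finset.ssubset_iff_subset_ne.mpr ⟨hsub, fun e => hqout (by
      rw [← e] at hq
      simpa [OfFour] using hq)⟩
    have := Finset.card_lt_card this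
    omega
  have haS : ∀ x ∈ S, a • x ∈ S := fun x hx => smul_mem_fs pa hx
  have hpS : p ∈ S := by
    by_contra hp
    have h6 : S.card = 6 := by
      rcases h.fs_card_cases hn h5 with e | e | e
      · exact absurd (third_mem F.aa haS (by rw [e]; decide) hne.2.2.2.2.2
          (ofFour_mem_fs (by simp [OfFour])) (ofFour_mem_fs (by simp [OfFour])) F.a3 F.a4 F.afix) hp
      · exact e
      · exact absurd (third_mem F.aa haS (by rw [e]; decide) hne.2.2.2.2.2
          (ofFour_mem_fs (by simp [OfFour])) (ofFour_mem_fs (by simp [OfFour])) F.a3 F.a4 F.afix) hp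
    set D := S \ ({e1, e2, e3, e4} : Finset α) with hD
    have hDc : D.card = 2 := by
      rw [hD, Finset.card_sdiff_of_subset hsub, h6, h4]
    have hDm : ∀ z, z ∈ D ↔ z ∈ S ∧ ¬ OfFour e1 e2 e3 e4 z := fun z => by simp [hD, OfFour]
    have hqD : q ∈ D := (hDm q).mpr ⟨hq, hqout⟩
    simp only [OfFour, not_or] at hqout
    have haq : a • q ≠ q := fun e => by
      rcases F.afix q e with e | e | e
      exacts [hqout.2.2.1 e, hqout.2.2.2 e, hp (e ▸ hq)]
    have hbq : b • q ≠ q := fun e => by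
      rcases F.bfix q e with e | e | e
      exacts [hqout.1 e, hqout.2.1 e, hp (e ▸ hq)]
    have hmv : ∀ g : G, g * g = 1 → Preserves e1 e2 e3 e4 g → g • q ∈ D := fun g hgg hg =>
      (hDm _).mpr ⟨smul_mem_fs hg hq, fun hc => by
        have := hg _ hc
        rw [← mul_smul, hgg, one_smul] at this
        simp only [OfFour] at this
        tauto⟩
    have hDeq : D = {q, a • q} := (Finset.eq_of_subset_of_card_le (fun z hz => by
      simp only [Finset.mem_insert, Finset.mem_singleton] at hz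
      rcases hz with rfl | rfl
      exacts [hqD, hmv a F.aa pa]) (by rw [hDc, Finset.card_pair (Ne.symm haq)])).symm
    have hbq' : b • q = a • q := by
      have := hmv b F.bb pb
      rw [hDeq] at this
      simpa [hbq] using this
    have hcq : (a * b) • q = q := by rw [mul_smul, hbq', ← mul_smul, F.aa, one_smul]
    have hcaq : (a * b) • a • q = a • q := by
      rw [← mul_smul, show a * b * a = a * (a * b) by rw [mul_assoc, ← F.comm.eq], mul_smul, hcq]
    have hcc : a * b * (a * b) = 1 := by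
      rw [mul_assoc, ← mul_assoc b a, ← F.comm.eq, mul_assoc a b b, F.bb, mul_one, F.aa]
    have hc1 : a * b ≠ 1 := fun e => hne.1 (by
      have := congrArg (fun g : G => g • e1) e
      simp only [mul_smul, F.b1, F.a1, one_smul] at this
      exact this.symm)
    obtain ⟨r, -, -, -, hcfix⟩ := h.exists_third ho hcc hc1 (Ne.symm haq) hcq hcaq
    have hr : p = r := by
      rcases hcfix p (by rw [mul_smul, F.bp, F.ap]) with e | e | e
      · exact absurd (e ▸ hq) hp
      · exact absurd (e ▸ smul_mem_fs pa hq) hp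
      · exact e
    refine hp (mem_fs.mpr (h.fixes_third F fun u hu huc => ?_))
    have h1 : (a * b) • u • p = u • p := by rw [← mul_smul, ← huc, mul_smul, mul_smul a b, F.bp, F.ap]
    rcases hcfix _ h1 with e | e | e
    · exact absurd (MulAction.injective u (e.trans (mem_fs.mp hq u hu).symm)) (fun e' => hp (e' ▸ hq))
    · exact absurd (MulAction.injective u (e.trans (mem_fs.mp (smul_mem_fs pa hq) u hu).symm))
        (fun e' => hp (e' ▸ smul_mem_fs pa hq))
    · exact e.trans hr.symm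
  have h6 : S.card ≠ 6 := fun e => by
    have h3 : (S.filter fun x => a • x = x) = {e3, e4, p} := by
      ext z
      simp only [Finset.mem_filter, Finset.mem_insert, Finset.mem_singleton]
      refine ⟨fun hz => F.afix z hz.2, fun hz => ?_⟩
      rcases hz with rfl | rfl | rfl
      exacts [⟨ofFour_mem_fs (by simp [OfFour]), F.a3⟩, ⟨ofFour_mem_fs (by simp [OfFour]), F.a4⟩,
        ⟨hpS, F.ap⟩]
    have := (odd_fixed_iff F.aa S haS).mp (by
      rw [h3, Finset.card_eq_three.mpr ⟨_, _, _, hne.2.2.2.2.2, Ne.symm hp3, Ne.symm hp4, rfl⟩]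
      decide)
    rw [e] at this
    exact absurd this (by decide)
  have hf : ∀ a b c d : α, [a, b, c, d].Nodup →
      (fs G a b c d).card = 5 ∨ (fs G a b c d).card = 11 := fun a' b' c' d' hn' => by
    have h' := h.fs_card_cases hn h5
    rw [← hS] at h'
    rw [h.card_fs_eq hn' hn, ← hS]
    omega
  refine (Subgroup.eq_bot_iff_forall _).mpr fun u hu => FaithfulSMul.eq_of_smul_eq_smul (α := α) fun x => ?_
  rw [one_smul]
  by_cases hxS : x ∈ S
  · exact mem_fs.mp hxS u hu
  have hx : ¬ OfFour e1 e2 e3 e4 x := fun hc => hxS (ofFour_mem_fs hc)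
  simp only [OfFour, not_or] at hx
  have hax : a • x ≠ x := fun e => by
    rcases F.afix x e with e | e | e
    exacts [hx.2.2.1 e, hx.2.2.2 e, hxS (e ▸ hpS)]
  have hax' : a • x ∉ S := fun hc => hxS (by
    have := haS _ hc
    rwa [← mul_smul, F.aa, one_smul] at this)
  obtain ⟨v, hvv, hcm, v1, v2, -, hv⟩ := h.exists_comm (a := e1) (b := e2) (c := x) (d := a • x)
    (by
      simp only [List.nodup_cons, List.mem_cons, List.not_mem_nil, or_false, not_or]
      exact ⟨⟨hne.1, Ne.symm hx.1, fun e => hax' (e ▸ ofFour_mem_fs (by simp [OfFour]))⟩,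
        ⟨Ne.symm hx.2.1, fun e => hax' (e ▸ ofFour_mem_fs (by simp [OfFour]))⟩, Ne.symm hax,
        not_false, List.nodup_nil⟩) F.aa F.a1 F.a2 (Or.inr ⟨rfl, by rw [← mul_smul, F.aa, one_smul]⟩)
  obtain ⟨vx, vax⟩ := hv rfl
  have hv1 : v ≠ 1 := fun e => hne.1 (by rw [e, one_smul] at v1; exact v1)
  obtain ⟨r, hrx, hrax, hvr, hvfix⟩ := h.exists_third ho hvv hv1 (Ne.symm hax) vx vax
  have hcomm : ∀ z : α, a • z = z → a • v • z = v • z := fun z hz => by
    rw [← mul_smul, hcm.eq, mul_smul, hz]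
  have hS3 : ∀ z, a • z = z → z ∈ S := fun z hz => by
    rcases F.afix z hz with rfl | rfl | rfl
    exacts [ofFour_mem_fs (by simp [OfFour]), ofFour_mem_fs (by simp [OfFour]), hpS]
  obtain ⟨s, hs, hvs⟩ : ∃ s : α, a • s = s ∧ v • s ≠ s := by
    classical
    by_contra! hc
    have h3 : e3 = r ∧ e4 = r := by
      refine ⟨?_, ?_⟩
      · rcases hvfix e3 (hc e3 F.a3) with e | e | e
        exacts [absurd e.symm hx.2.2.1, absurd (e ▸ ofFour_mem_fs (by simp [OfFour])) hax', e]
      · rcases hvfix e4 (hc e4 F.a4) with e | e | e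
        exacts [absurd e.symm hx.2.2.2, absurd (e ▸ ofFour_mem_fs (by simp [OfFour])) hax', e]
    exact hne.2.2.2.2.2 (h3.1.trans h3.2.symm)
  have hs' : a • v • s = v • s := hcomm s hs
  have hsne : ∀ z, a • z = z → z ≠ e1 ∧ z ≠ e2 := fun z hz =>
    ⟨fun e => hne.1 (by rw [e, F.a1] at hz; exact hz.symm), fun e => hne.1 (by rw [e, F.a2] at hz; exact hz)⟩
  have hqn : [e1, e2, s, v • s].Nodup := by
    simp [List.nodup_cons, hne.1, Ne.symm (hsne s hs).1, Ne.symm (hsne s hs).2, Ne.symm hvs,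
      Ne.symm (hsne _ hs').1, Ne.symm (hsne _ hs').2]
  have hqn' : [s, v • s, e1, e2].Nodup := by
    simp [List.nodup_cons, hne.1, (hsne s hs).1, (hsne s hs).2, Ne.symm hvs,
      (hsne _ hs').1, (hsne _ hs').2]
  have hu' : u ∈ fix4 G e1 e2 s (v • s) := mem_fix4.mpr ⟨fix4_smul hu (by simp [OfFour]),
    fix4_smul hu (by simp [OfFour]), mem_fs.mp (hS3 s hs) u hu, mem_fs.mp (hS3 _ hs') u hu⟩
  have hvvs : v • v • s = s := by rw [← mul_smul, hvv, one_smul]
  have htt : a * v * (a * v) = 1 := by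
    rw [mul_assoc, ← mul_assoc v a, ← hcm.eq, mul_assoc a v v, hvv, mul_one, F.aa]
  have c1 := h.centralises ho hf hqn htt (by rw [mul_smul, v1, F.a2]) (by rw [mul_smul, v2, F.a1])
    (by rw [mul_smul, hs']) (by rw [mul_smul, hvvs, hs]) hu'
  have c2 := h.centralises ho hf hqn' F.aa hs hs' F.a1 F.a2
    (perm_mem_fix4 hu' (by simp [OfFour]) (by simp [OfFour]) (by simp [OfFour]) (by simp [OfFour]))
  have c3 : u * v = v * u := by
    calc u * v = u * a * (a * v) := by rw [mul_assoc, ← mul_assoc a, F.aa, one_mul]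
      _ = a * (u * (a * v)) := by rw [c2, mul_assoc]
      _ = a * a * v * u := by rw [c1]; simp only [mul_assoc]
      _ = v * u := by rw [F.aa, one_mul]
  have hur : u • r = r := by
    have : a • r = r := by
      have h3 : ({e3, e4, p} : Finset α).card = 3 :=
        Finset.card_eq_three.mpr ⟨_, _, _, hne.2.2.2.2.2, Ne.symm hp3, Ne.symm hp4, rfl⟩
      have hfa : ∀ z, z ∈ ({e3, e4, p} : Finset α) ↔ a • z = z := fun z => by
        simp only [Finset.mem_insert, Finset.mem_singleton]
        refine ⟨fun hz => ?_, F.afix z⟩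
        rcases hz with rfl | rfl | rfl
        exacts [F.a3, F.a4, F.ap]
      obtain ⟨z, hz⟩ := Finset.card_pos.mp ((odd_fixed_iff hvv ({e3, e4, p} : Finset α)
        (fun z hz => (hfa _).mpr (hcomm z ((hfa z).mp hz)))).mpr (by rw [h3]; decide)).pos
      obtain ⟨hz1, hz2⟩ := Finset.mem_filter.mp hz
      rw [hfa] at hz1
      rcases hvfix z hz2 with e | e | e
      exacts [absurd (e ▸ hS3 z hz1) hxS, absurd (e ▸ hS3 z hz1) hax', e ▸ hz1]
    exact mem_fs.mp (hS3 r this) u hu
  have hperm : ∀ z : α, v • z = z → v • u • z = u • z := fun z hz => by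
    rw [← mul_smul, ← c3, mul_smul, hz]
  refine fix_of_pair (h.odd _ _ _ _ hn) (h.pow_card_eq hu) (y := a • x) ?_ ?_
  · rcases hvfix _ (hperm x vx) with e | e | e
    exacts [Or.inl e, Or.inr e, absurd (MulAction.injective u (e.trans hur.symm)) (Ne.symm hrx)]
  · rcases hvfix _ (hperm _ vax) with e | e | e
    exacts [Or.inl e, Or.inr e, absurd (MulAction.injective u (e.trans hur.symm)) (Ne.symm hrax)]

end OddFour

end Cfsg.Agent.PermGroups.HallFour
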