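/-
Four-transitive groups with odd stabiliser of four points: no further point fixed forces one more
degree of transitivity.
-/
import Cfsg.Agent.PermGroups.HallFour.Fixed

set_option autoImplicit false
set_option maxHeartbeats 1000000

namespace Cfsg.Agent.PermGroups.HallFour

open MulAction

variable {G : Type*} [Group G] [Finite G] {α : Type*} [Fintype α] [DecidableEq α] [MulAction G α]

/-- Elements agreeing on four points as permutations move orbits of their stabiliser equally. -/
theorem orb_congr {e1 e2 e3 e4 : α} {g g' : G} (hg' : Preserves e1 e2 e3 e4 g')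
    (h : ∀ z, OfFour e1 e2 e3 e4 z → g • z = g' • z) (x : α) :
    orb (fix4 G e1 e2 e3 e4) (g • x) = orb (fix4 G e1 e2 e3 e4) (g' • x) := by
  refine orb_eq (mem_orb.mpr ⟨g * g'⁻¹, ?_, by rw [mul_smul, inv_smul_smul]⟩)
  have key : ∀ z, OfFour e1 e2 e3 e4 z → (g * g'⁻¹) • z = z := fun z hz => by
    rw [mul_smul, h _ (hg'.inv z hz), smul_inv_smul]
  exact mem_fix4.mpr ⟨key _ (by simp [OfFour]), key _ (by simp [OfFour]), key _ (by simp [OfFour]),
    key _ (by simp [OfFour])⟩

theorem orb_map {e1 e2 e3 e4 : α} {g : G} (hg : Preserves e1 e2 e3 e4 g) {x y : α}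
    (h : orb (fix4 G e1 e2 e3 e4) x = orb (fix4 G e1 e2 e3 e4) y) :
    orb (fix4 G e1 e2 e3 e4) (g • x) = orb (fix4 G e1 e2 e3 e4) (g • y) := by
  rw [orb_smul hg.normalizes, orb_smul hg.normalizes, h]

/-- The involution attached to a point whose orbit is not that of the common fixed point. -/
def Typed (G : Type*) [Group G] {α : Type*} [MulAction G α] (e1 e2 r s p : α) (a : G) (x : α) : Prop :=
  ∃ v : G, v * v = 1 ∧ v • e1 = e2 ∧ v • e2 = e1 ∧ v • r = r ∧ v • s = p ∧ v • p = s ∧ v • x = x ∧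
    ∀ z, v • z = z → z = x ∨ z = a • x ∨ z = r

omit [Finite G] [DecidableEq α] [Fintype α] in
theorem Preserves.invol_out {e1 e2 e3 e4 : α} {g : G} (hg : Preserves e1 e2 e3 e4 g) (hgg : g * g = 1)
    {x : α} (hx : ¬ OfFour e1 e2 e3 e4 x) : ¬ OfFour e1 e2 e3 e4 (g • x) := fun hc => hx (by
  have := hg _ hc
  rwa [← mul_smul, hgg, one_smul] at this)

namespace OddFour

variable (h : OddFour G α)
include h

theorem exists_fixed_in_orb {e1 e2 e3 e4 : α} (hn : [e1, e2, e3, e4].Nodup) {g : G} (hgg : g * g = 1)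
    (hg : Preserves e1 e2 e3 e4 g) {x : α}
    (hx : orb (fix4 G e1 e2 e3 e4) (g • x) = orb (fix4 G e1 e2 e3 e4) x) :
    ∃ z ∈ orb (fix4 G e1 e2 e3 e4) x, g • z = z := by
  have hinv : ∀ z ∈ orb (fix4 G e1 e2 e3 e4) x, g • z ∈ orb (fix4 G e1 e2 e3 e4) x := fun z hz => by
    rw [← hx, orb_smul hg.normalizes]
    exact Finset.mem_image_of_mem _ hz
  obtain ⟨z, hz⟩ := Finset.card_pos.mp
    ((odd_fixed_iff hgg _ hinv).mpr (odd_card_orb (h.odd _ _ _ _ hn) x)).pos
  obtain ⟨h1, h2⟩ := Finset.mem_filter.mp hz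
  exact ⟨z, h1, h2⟩

/-- If no further point is fixed, the stabiliser of four points is transitive on the others. -/
theorem transitive_of_moved (ho : Odd (Fintype.card α)) {e1 e2 e3 e4 : α}
    (hn : [e1, e2, e3, e4].Nodup)
    (hF : ∀ q, ¬ OfFour e1 e2 e3 e4 q → q ∉ fs G e1 e2 e3 e4) :
    ∃ p, ¬ OfFour e1 e2 e3 e4 p ∧
      ∀ y, ¬ OfFour e1 e2 e3 e4 y → p ∈ orb (fix4 G e1 e2 e3 e4) y := by
  obtain ⟨a, b, p, F⟩ := h.exists_frame ho hn
  refine ⟨p, F.out, ?_⟩
  obtain ⟨hp1, hp2, hp3, hp4⟩ : p ≠ e1 ∧ p ≠ e2 ∧ p ≠ e3 ∧ p ≠ e4 := by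
    simpa [OfFour, not_or] using F.out
  have hne : e1 ≠ e2 ∧ e1 ≠ e3 ∧ e1 ≠ e4 ∧ e2 ≠ e3 ∧ e2 ≠ e4 ∧ e3 ≠ e4 := by
    simp only [List.nodup_cons, List.mem_cons, List.not_mem_nil, or_false, not_or] at hn
    tauto
  set H := fix4 G e1 e2 e3 e4 with hH
  set O := fun y : α => orb H y with hO
  obtain ⟨c, hc⟩ : ∃ c, c = a * b := ⟨_, rfl⟩
  have c1 : c • e1 = e2 := by rw [hc, mul_smul, F.b1, F.a1]
  have c2 : c • e2 = e1 := by rw [hc, mul_smul, F.b2, F.a2]
  have c3 : c • e3 = e4 := by rw [hc, mul_smul, F.b3, F.a4]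
  have c4 : c • e4 = e3 := by rw [hc, mul_smul, F.b4, F.a3]
  have cp : c • p = p := by rw [hc, mul_smul, F.bp, F.ap]
  have hcc : c * c = 1 := by
    rw [hc, mul_assoc, ← mul_assoc b a, ← F.comm.eq, mul_assoc a b b, F.bb, mul_one, F.aa]
  have hc1 : c ≠ 1 := fun e => hne.1 (by rw [e, one_smul] at c1; exact c1)
  have pa : Preserves e1 e2 e3 e4 a := preserves_of (by simp [OfFour, F.a1]) (by simp [OfFour, F.a2])
    (by simp [OfFour, F.a3]) (by simp [OfFour, F.a4])
  have pb : Preserves e1 e2 e3 e4 b := preserves_of (by simp [OfFour, F.b1]) (by simp [OfFour, F.b2])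
    (by simp [OfFour, F.b3]) (by simp [OfFour, F.b4])
  have pc : Preserves e1 e2 e3 e4 c := preserves_of (by simp [OfFour, c1]) (by simp [OfFour, c2])
    (by simp [OfFour, c3]) (by simp [OfFour, c4])
  have houtorb : ∀ x, ¬ OfFour e1 e2 e3 e4 x → ∀ z ∈ orb H x, ¬ OfFour e1 e2 e3 e4 z := by
    intro x hx z hz hc'
    obtain ⟨u, hu, rfl⟩ := mem_orb.mp hz
    exact hx (MulAction.injective u (fix4_smul hu hc') ▸ hc')
  -- the fixed points of the double transposition lie in one orbit
  obtain ⟨u, hu, huc, hup⟩ : ∃ u ∈ H, u * c = c * u ∧ u • p ≠ p := by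
    classical
    by_contra! hcon
    exact hF p F.out (mem_fs.mpr (h.fixes_third F fun w hw hwc => hcon w hw (by rw [hc]; exact hwc)))
  obtain ⟨r, hrp, hrup, hcr, hcfix'⟩ := h.exists_third ho hcc hc1 (Ne.symm hup) cp
    (by rw [← mul_smul, ← huc, mul_smul, cp])
  have hcfix : ∀ z, c • z = z → orb H z = orb H p := by
    have h1 : c • u • u • p = u • u • p := by
      rw [← mul_smul c, ← huc, mul_smul, ← mul_smul c u p, ← huc, mul_smul, cp]
    have h2 : u • u • p = r := by
      rcases hcfix' _ h1 with e | e | e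
      · exact absurd (fix_of_pair (h.odd _ _ _ _ hn) (h.pow_card_eq hu) (Or.inr rfl) (Or.inl e)) hup
      · exact absurd (MulAction.injective u e) hup
      · exact e
    intro z hz
    refine orb_eq (mem_orb.mpr ?_)
    rcases hcfix' z hz with e | e | e
    · exact ⟨1, H.one_mem, by rw [one_smul, e]⟩
    · exact ⟨u, hu, e.symm⟩
    · exact ⟨u * u, H.mul_mem hu hu, by rw [mul_smul, h2, e]⟩
  -- the other orbits are moved by all three involutions
  have hmoved : ∀ x, ¬ OfFour e1 e2 e3 e4 x → O x ≠ O p →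
      O (a • x) ≠ O x ∧ O (b • x) ≠ O x ∧ O (c • x) ≠ O x := by
    intro x hx hP
    refine ⟨fun e => hP ?_, fun e => hP ?_, fun e => hP ?_⟩
    · obtain ⟨z, hz, hzf⟩ := h.exists_fixed_in_orb hn F.aa pa e
      have hout := houtorb x hx z hz
      rcases F.afix z hzf with e' | e' | e'
      · exact absurd (by simp [OfFour, e']) hout
      · exact absurd (by simp [OfFour, e']) hout
      · show orb H x = orb H p
        rw [← orb_eq hz, e']
    · obtain ⟨z, hz, hzf⟩ := h.exists_fixed_in_orb hn F.bb pb e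
      have hout := houtorb x hx z hz
      rcases F.bfix z hzf with e' | e' | e'
      · exact absurd (by simp [OfFour, e']) hout
      · exact absurd (by simp [OfFour, e']) hout
      · show orb H x = orb H p
        rw [← orb_eq hz, e']
    · obtain ⟨z, hz, hzf⟩ := h.exists_fixed_in_orb hn hcc pc e
      show orb H x = orb H p
      rw [← orb_eq hz]
      exact hcfix z hzf
  -- each of them has one of two types
  have htype : ∀ x, ¬ OfFour e1 e2 e3 e4 x → O x ≠ O p →
      Typed G e1 e2 e3 e4 p a x ∨ Typed G e1 e2 e4 e3 p a x := by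
    intro x hx hP
    have hxp : x ≠ p := fun e => hP (by rw [e])
    have hax : a • x ≠ x := fun e => by
      rcases F.afix x e with e' | e' | e'
      exacts [hx (by simp [OfFour, e']), hx (by simp [OfFour, e']), hxp e']
    have hax' := pa.invol_out F.aa hx
    have haaa : ∀ z : α, a • a • z = z := fun z => by rw [← mul_smul, F.aa, one_smul]
    obtain ⟨v, hvv, hcm, v1, v2, -, hv⟩ := h.exists_comm (a := e1) (b := e2) (c := x) (d := a • x)
      (by
        simp only [OfFour, not_or] at hx hax'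
        simp only [List.nodup_cons, List.mem_cons, List.not_mem_nil, or_false, not_or]
        exact ⟨⟨hne.1, Ne.symm hx.1, Ne.symm hax'.1⟩, ⟨Ne.symm hx.2.1, Ne.symm hax'.2.1⟩, Ne.symm hax,
          not_false, List.nodup_nil⟩) F.aa F.a1 F.a2 (Or.inr ⟨rfl, haaa x⟩)
    obtain ⟨vx, vax⟩ := hv rfl
    have hv1 : v ≠ 1 := fun e => hne.1 (by rw [e, one_smul] at v1; exact v1)
    obtain ⟨r, -, -, hvr, hvfix⟩ := h.exists_third ho hvv hv1 (Ne.symm hax) vx vax
    have hfa : ∀ z, z ∈ ({e3, e4, p} : Finset α) ↔ a • z = z := fun z => by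
      simp only [Finset.mem_insert, Finset.mem_singleton]
      refine ⟨fun hz => ?_, F.afix z⟩
      rcases hz with rfl | rfl | rfl
      exacts [F.a3, F.a4, F.ap]
    have hcomm : ∀ z : α, a • z = z → a • v • z = v • z := fun z hz => by
      rw [← mul_smul, hcm.eq, mul_smul, hz]
    have hnot : ∀ z, a • z = z → v • z = z → z = r := fun z hz hvz => by
      rcases hvfix z hvz with e | e | e
      · exact absurd (e ▸ hz) hax
      · rw [e, haaa] at hz; exact absurd hz.symm hax
      · exact e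
    obtain ⟨z, hz⟩ := Finset.card_pos.mp ((odd_fixed_iff hvv ({e3, e4, p} : Finset α)
      (fun z hz => (hfa _).mpr (hcomm z ((hfa z).mp hz)))).mpr (by
        rw [Finset.card_eq_three.mpr ⟨_, _, _, hne.2.2.2.2.2, Ne.symm hp3, Ne.symm hp4, rfl⟩]
        decide)).pos
    obtain ⟨hz1, hz2⟩ := Finset.mem_filter.mp hz
    rw [hfa] at hz1
    have hra : a • r = r := hnot z hz1 hz2 ▸ hz1
    have hvvz : ∀ z : α, v • v • z = z := fun z => by rw [← mul_smul, hvv, one_smul]
    rcases F.afix r hra with e | e | e <;> subst e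
    · left
      have v4 : v • e4 = p := by
        rcases F.afix _ (hcomm e4 F.a4) with e | e | e
        · exact absurd (MulAction.injective v (e.trans hvr.symm)) hne.2.2.2.2.2.symm
        · exact absurd (hnot e4 F.a4 e) hne.2.2.2.2.2.symm
        · exact e
      exact ⟨v, hvv, v1, v2, hvr, v4, by rw [← v4, hvvz], vx, hvfix⟩
    · right
      have v3 : v • e3 = p := by
        rcases F.afix _ (hcomm e3 F.a3) with e | e | e
        · exact absurd (hnot e3 F.a3 e) hne.2.2.2.2.2
        · exact absurd (MulAction.injective v (e.trans hvr.symm)) hne.2.2.2.2.2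
        · exact e
      exact ⟨v, hvv, v1, v2, hvr, v3, by rw [← v3, hvvz], vx, hvfix⟩
    · have v3 : v • e3 = e4 := by
        rcases F.afix _ (hcomm e3 F.a3) with e | e | e
        · exact absurd (hnot e3 F.a3 e).symm hp3
        · exact e
        · exact absurd (MulAction.injective v (e.trans hvr.symm)).symm hp3
      have v4 : v • e4 = e3 := by rw [← v3, hvvz]
      have hw' : c * v ∈ H := mem_fix4.mpr ⟨by rw [mul_smul, v1, c2], by rw [mul_smul, v2, c1],
        by rw [mul_smul, v3, c4], by rw [mul_smul, v4, c3]⟩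
      obtain ⟨w, hw, hwv⟩ := conj_odd hcc hvv (h.orderOf_odd hn hw')
      have hwH : w ∈ H := Subgroup.zpowers_le.mpr hw' hw
      have hfix : c • w • x = w • x := by
        rw [← mul_smul, show c * w = w * v by rw [← hwv]; group, mul_smul, vx]
      exact absurd ((orb_eq (mem_orb.mpr ⟨w, hwH, rfl⟩)).symm.trans (hcfix _ hfix)) hP
  -- points of one type lie in two orbits
  have hsame : ∀ r s, (r = e3 ∧ s = e4 ∨ r = e4 ∧ s = e3) → ∀ x y, ¬ OfFour e1 e2 e3 e4 y →
      Typed G e1 e2 r s p a x → Typed G e1 e2 r s p a y → O y = O x ∨ O y = O (a • x) := by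
    rintro r s hrs x y hy ⟨v, hvv, v1, v2, vr, vs, vp, -, hvfix⟩ ⟨v', hvv', v1', v2', vr', vs', -, vy, -⟩
    have hw' : v * v' ∈ H := by
      have h1 : (v * v') • r = r := by rw [mul_smul, vr', vr]
      have h2 : (v * v') • s = s := by rw [mul_smul, vs', vp]
      refine mem_fix4.mpr ⟨by rw [mul_smul, v1', v2], by rw [mul_smul, v2', v1], ?_, ?_⟩
      · rcases hrs with ⟨rfl, rfl⟩ | ⟨rfl, rfl⟩
        exacts [h1, h2]
      · rcases hrs with ⟨rfl, rfl⟩ | ⟨rfl, rfl⟩
        exacts [h2, h1]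
    obtain ⟨w, hw, hwv⟩ := conj_odd hvv hvv' (h.orderOf_odd hn hw')
    have hwH : w ∈ H := Subgroup.zpowers_le.mpr hw' hw
    have hfix : v • w • y = w • y := by
      rw [← mul_smul, show v * w = w * v' by rw [← hwv]; group, mul_smul, vy]
    have horb : O y = O (w • y) := (orb_eq (mem_orb.mpr ⟨w, hwH, rfl⟩)).symm
    rcases hvfix _ hfix with e | e | e
    · exact Or.inl (by rw [horb, e])
    · exact Or.inr (by rw [horb, e])
    · refine absurd ?_ (houtorb y hy _ (mem_orb.mpr ⟨w, hwH, e⟩))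
      rcases hrs with ⟨rfl, -⟩ | ⟨rfl, -⟩ <;> simp [OfFour]
  intro y hy
  classical
  by_contra hcon
  have hP : O y ≠ O p := fun e => hcon (by
    have e' : orb H y = orb H p := e
    rw [e']; exact mem_orb_self p)
  have hnonP : ∀ g : G, g * g = 1 → Preserves e1 e2 e3 e4 g → g • p = p → ∀ x, O x ≠ O p →
      O (g • x) ≠ O p := fun g hgg hg hgp x hx e => hx (by
    have := orb_map hg e
    rwa [← mul_smul, hgg, one_smul, hgp] at this)
  obtain ⟨hQa, hQb, hQc⟩ := hmoved y hy hP
  have hby := pb.invol_out F.bb hy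
  have hbP := hnonP b F.bb pb F.bp y hP
  have habc : O (a • b • y) = O (c • y) := by rw [hc, mul_smul]
  have cover : ∀ x, ¬ OfFour e1 e2 e3 e4 x → O x ≠ O p →
      O x = O y ∨ O x = O (a • y) ∨ O x = O (b • y) ∨ O x = O (c • y) := by
    intro x hx hxP
    have main : ∀ r s, (r = e3 ∧ s = e4 ∨ r = e4 ∧ s = e3) → Typed G e1 e2 r s p a y →
        (Typed G e1 e2 r s p a x ∨ Typed G e1 e2 s r p a x) →
        (Typed G e1 e2 r s p a (b • y) ∨ Typed G e1 e2 s r p a (b • y)) →
        O x = O y ∨ O x = O (a • y) ∨ O x = O (b • y) ∨ O x = O (c • y) := by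
      intro r s hrs hy' hx' hb'
      rcases hb' with hb' | hb'
      · rcases hsame r s hrs y _ hby hy' hb' with e | e
        · exact absurd e hQb
        · refine absurd ?_ hQc
          have := orb_map pa e
          rw [← mul_smul a a, F.aa, one_smul] at this
          exact habc.symm.trans this
      · rcases hx' with hx' | hx'
        · rcases hsame r s hrs y x hx hy' hx' with e | e
          · exact Or.inl e
          · exact Or.inr (Or.inl e)
        · rcases hsame s r (by tauto) _ x hx hb' hx' with e | e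
          · exact Or.inr (Or.inr (Or.inl e))
          · exact Or.inr (Or.inr (Or.inr (e.trans habc)))
    rcases htype y hy hP with hy' | hy'
    · exact main e3 e4 (Or.inl ⟨rfl, rfl⟩) hy' (htype x hx hxP) (htype _ hby hbP)
    · exact main e4 e3 (Or.inr ⟨rfl, rfl⟩) hy' (htype x hx hxP).symm (htype _ hby hbP).symm
  -- a conjugate of the double transposition gives the contradiction
  obtain ⟨g, g1, g2, g3, g4⟩ := LW.exists_map_four h.trans hn (show [e1, e3, e2, e4].Nodup by
    simp [List.nodup_cons, hne, Ne.symm hne.2.2.2.1])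
  have gi : g⁻¹ • e1 = e1 ∧ g⁻¹ • e3 = e2 ∧ g⁻¹ • e2 = e3 ∧ g⁻¹ • e4 = e4 :=
    ⟨inv_smul_eq_iff.mpr g1.symm, inv_smul_eq_iff.mpr g2.symm, inv_smul_eq_iff.mpr g3.symm,
      inv_smul_eq_iff.mpr g4.symm⟩
  have pg : Preserves e1 e2 e3 e4 g := preserves_of (by simp [OfFour, g1]) (by simp [OfFour, g2])
    (by simp [OfFour, g3]) (by simp [OfFour, g4])
  obtain ⟨d, hd⟩ : ∃ d, d = g * c * g⁻¹ := ⟨_, rfl⟩
  have d1 : d • e1 = e3 := by rw [hd, mul_smul, mul_smul, gi.1, c1, g2]
  have d2 : d • e2 = e4 := by rw [hd, mul_smul, mul_smul, gi.2.2.1, c3, g4]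
  have d3 : d • e3 = e1 := by rw [hd, mul_smul, mul_smul, gi.2.1, c2, g1]
  have d4 : d • e4 = e2 := by rw [hd, mul_smul, mul_smul, gi.2.2.2, c4, g3]
  have hdd : d * d = 1 := by
    rw [hd, show g * c * g⁻¹ * (g * c * g⁻¹) = g * (c * c) * g⁻¹ by group, hcc]; group
  have pd : Preserves e1 e2 e3 e4 d := preserves_of (by simp [OfFour, d1]) (by simp [OfFour, d2])
    (by simp [OfFour, d3]) (by simp [OfFour, d4])
  have hddd : ∀ z : α, d • d • z = z := fun z => by rw [← mul_smul, hdd, one_smul]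
  have hfixd : ∀ x, ¬ OfFour e1 e2 e3 e4 x → O (d • x) = O x → O x = O (g • p) := by
    intro x hx e
    have hx' : ¬ OfFour e1 e2 e3 e4 (g⁻¹ • x) := fun hc' => hx (by simpa using pg _ hc')
    have e' := orb_map pg.inv e
    rw [← mul_smul, show g⁻¹ * d = c * g⁻¹ by rw [hd]; group, mul_smul] at e'
    have hgP : O (g⁻¹ • x) = O p := by
      by_contra hne'
      exact (hmoved _ hx' hne').2.2 e'
    have := orb_map pg hgP
    rwa [smul_inv_smul] at this
  have hdp : O (d • p) = O p := by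
    have hpout := pd.invol_out hdd F.out
    by_contra hne'
    refine (hmoved _ hpout hne').2.2 ?_
    have := orb_congr (g := c * d) (g' := d * c)
      (fun z hz => by rw [mul_smul]; exact pd _ (pc _ hz)) (fun z hz => by
        rcases hz with rfl | rfl | rfl | rfl <;>
          simp [mul_smul, c1, c2, c3, c4, d1, d2, d3, d4]) p
    rwa [mul_smul, mul_smul, cp] at this
  have hgp : O (g • p) = O p := (hfixd p F.out hdp).symm
  have hdy := pd.invol_out hdd hy
  have hdyP : O (d • y) ≠ O p := fun e => hP (by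
    have := orb_map pd e
    rw [hddd] at this
    exact this.trans hdp)
  have hda : ∀ x, O (d • a • x) = O (b • d • x) := fun x => by
    have := orb_congr (g := d * a) (g' := b * d)
      (fun z hz => by rw [mul_smul]; exact pb _ (pd _ hz)) (fun z hz => by
        rcases hz with rfl | rfl | rfl | rfl <;>
          simp [mul_smul, F.a1, F.a2, F.a3, F.a4, F.b1, F.b2, F.b3, F.b4, d1, d2, d3, d4]) x
    rwa [mul_smul, mul_smul] at this
  have hdb : ∀ x, O (d • b • x) = O (a • d • x) := fun x => by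
    have := orb_congr (g := d * b) (g' := a * d)
      (fun z hz => by rw [mul_smul]; exact pa _ (pd _ hz)) (fun z hz => by
        rcases hz with rfl | rfl | rfl | rfl <;>
          simp [mul_smul, F.a1, F.a2, F.a3, F.a4, F.b1, F.b2, F.b3, F.b4, d1, d2, d3, d4]) x
    rwa [mul_smul, mul_smul] at this
  rcases cover _ hdy hdyP with e | e | e | e
  · exact hP ((hfixd y hy e).trans hgp)
  · refine hQc ?_
    have h1 := (orb_map pd e).trans (hda y)
    rw [hddd] at h1
    rw [hc, F.comm.eq, mul_smul]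
    exact (h1.trans (orb_map pb e)).symm
  · refine hQc ?_
    have h1 := (orb_map pd e).trans (hdb y)
    rw [hddd] at h1
    rw [hc, mul_smul]
    exact (h1.trans (orb_map pa e)).symm
  · refine hnonP a F.aa pa F.ap y hP ?_
    have h1 : O (d • a • y) = O (a • y) := by
      refine (hda y).trans ((orb_map pb e).trans ?_)
      rw [← mul_smul, hc, F.comm.eq, ← mul_assoc, F.bb, one_mul]
    exact (hfixd _ (pa.invol_out F.aa hy) h1).trans hgp

end OddFour

end Cfsg.Agent.PermGroups.HallFour
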