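/-
Hall's theorem on four-transitive groups with odd stabiliser of four points: the main step.
-/
import Cfsg.Agent.PermGroups.HallFour.Even
import Cfsg.Agent.PermGroups.HallFour.Moving

set_option autoImplicit false
set_option maxHeartbeats 1000000

namespace Cfsg.Agent.PermGroups.HallFour

open MulAction SubMulAction

variable {G : Type*} [Group G] [Finite G] {α : Type*} [Fintype α] [DecidableEq α] [MulAction G α]

theorem OddFour.five_transitive (h : OddFour G α) {e1 e2 e3 e4 p : α}
    (hn : [e1, e2, e3, e4].Nodup)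
    (hp : ∀ y, ¬ OfFour e1 e2 e3 e4 y → p ∈ orb (fix4 G e1 e2 e3 e4) y) :
    IsMultiplyPretransitive G α 5 := by
  have base : ∀ x : Fin 5 ↪ α, ∃ g : G,
      g • x 0 = e1 ∧ g • x 1 = e2 ∧ g • x 2 = e3 ∧ g • x 3 = e4 ∧ g • x 4 = p := fun x => by
    obtain ⟨g, g0, g1, g2, g3⟩ := LW.exists_map_four h.trans
      (List.Nodup.map x.injective (show ([0, 1, 2, 3] : List (Fin 5)).Nodup by decide)) hn
    have hz : ¬ OfFour e1 e2 e3 e4 (g • x 4) := fun hc => by
      rcases hc with e | e | e | e
      · exact absurd (x.injective (MulAction.injective g (e.trans g0.symm))) (by decide)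
      · exact absurd (x.injective (MulAction.injective g (e.trans g1.symm))) (by decide)
      · exact absurd (x.injective (MulAction.injective g (e.trans g2.symm))) (by decide)
      · exact absurd (x.injective (MulAction.injective g (e.trans g3.symm))) (by decide)
    obtain ⟨u, hu, hu'⟩ := mem_orb.mp (hp _ hz)
    obtain ⟨u1, u2, u3, u4⟩ := mem_fix4.mp hu
    exact ⟨u * g, by rw [mul_smul, g0, u1], by rw [mul_smul, g1, u2], by rw [mul_smul, g2, u3],
      by rw [mul_smul, g3, u4], by rw [mul_smul, hu']⟩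
  refine isMultiplyPretransitive_iff.mpr fun x y => ?_
  obtain ⟨g, g0, g1, g2, g3, g4⟩ := base x
  obtain ⟨k, k0, k1, k2, k3, k4⟩ := base y
  refine ⟨k⁻¹ * g, Function.Embedding.ext fun i => ?_⟩
  change (k⁻¹ * g) • x i = y i
  rw [mul_smul, inv_smul_eq_iff]
  fin_cases i
  exacts [g0.trans k0.symm, g1.trans k1.symm, g2.trans k2.symm, g3.trans k3.symm, g4.trans k4.symm]

/-- From degree eight onwards the stabilisers of four points are trivial. -/
theorem OddFour.bot_of_large [FaithfulSMul G α] (h : OddFour G α) (hcard : 8 ≤ Fintype.card α)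
    {e1 e2 e3 e4 : α} (hn : [e1, e2, e3, e4].Nodup) : fix4 G e1 e2 e3 e4 = ⊥ := by
  classical
  rcases Nat.even_or_odd (Fintype.card α) with he | ho
  · exact (h.no_even he hcard).elim
  by_cases hq : ∃ q, ¬ OfFour e1 e2 e3 e4 q ∧ q ∈ fs G e1 e2 e3 e4
  · obtain ⟨q, hq1, hq2⟩ := hq
    exact h.bot_of_fixed ho hn hq1 hq2
  exfalso
  obtain ⟨p, -, hp⟩ := h.transitive_of_moved ho hn fun q hq1 hq2 => hq ⟨q, hq1, hq2⟩
  have h5 := h.five_transitive hn hp
  have h4 := h.trans
  have : IsPretransitive G α := is_one_pretransitive_iff.mp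
    (isMultiplyPretransitive_of_le (n := 5) (by norm_num) (by rw [Nat.card_eq_fintype_card]; omega))
  have hK : OddFour (stabilizer G e1) (ofStabilizer G e1) := by
    refine ⟨ofStabilizer.isMultiplyPretransitive.mp h5, fun a b c d hd => ?_⟩
    refine (h.odd (a : α) b c d (List.Nodup.map Subtype.val_injective hd)).of_dvd_nat ?_
    refine (dvd_of_eq (Subgroup.card_map_of_injective (K := fix4 (stabilizer G e1) a b c d)
      (f := (stabilizer G e1).subtype) Subtype.val_injective).symm).trans (Subgroup.card_dvd_of_le ?_)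
    rintro _ ⟨g, hg, rfl⟩
    obtain ⟨h1, h2, h3, h4'⟩ := mem_fix4.mp hg
    exact mem_fix4.mpr ⟨Subtype.ext_iff.mp h1, Subtype.ext_iff.mp h2, Subtype.ext_iff.mp h3,
      Subtype.ext_iff.mp h4'⟩
  have hcard' : Fintype.card (ofStabilizer G e1) = Fintype.card α - 1 := by
    rw [← Nat.card_eq_fintype_card, nat_card_ofStabilizer_eq G e1, Nat.card_eq_fintype_card]
  obtain ⟨j, hj⟩ := ho
  exact hK.no_even ⟨j, by omega⟩ (by omega)

end Cfsg.Agent.PermGroups.HallFour
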